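import Groth.Agent.Lib.AffDef26.Lifts
import Groth.Agent.Lib.CotT.Compare
import Groth.Agent.Lib.DefLift26.Basic

/-!
# Lifts of flat algebras are classified by `T¹` of the special fibre
-/

universe u

noncomputable section

namespace GrothLib.AffDef

open TensorProduct _root_.CotT MvPolynomial

attribute [local instance] Exal.opModule Exal.isCentralScalar_opModule

variable {k C' R B₀ : Type u} [Field k] [CommRing C'] [Algebra k C'] [CommRing R] [Algebra C' R]
  [CommRing B₀] [Algebra k B₀] [Algebra R B₀]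

variable (k) in
theorem surjective_aeval (h : ∀ b : B₀, ∃ r, algebraMap R B₀ r = b) :
    Function.Surjective (aeval (R := k) (fun r : R => algebraMap R B₀ r)) := fun b => by
  obtain ⟨r, rfl⟩ := h b
  exact ⟨X r, aeval_X _ r⟩

variable (k R B₀) in
/-- The presentation of `B₀` by the elements of `R`. -/
def fibrePres (h : ∀ b : B₀, ∃ r, algebraMap R B₀ r = b) :
    Algebra.Presentation k B₀ R
      (Algebra.Generators.ofSurjective (R := k) (fun r : R => algebraMap R B₀ r) (surjective_aeval k h)).ker where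
  __ := Algebra.Generators.ofSurjective (R := k) (fun r : R => algebraMap R B₀ r) (surjective_aeval k h)
  relation := Subtype.val
  span_range_relation_eq_ker := by
    refine le_antisymm (Ideal.span_le.mpr ?_) fun x hx => Ideal.subset_span ⟨⟨x, hx⟩, rfl⟩
    rintro _ ⟨r, rfl⟩
    exact r.2

variable {ε : C' →ₐ[k] k} {J : Ideal C'} (S : Setting ε J R B₀)

local notation "P'" => canon C' R
local notation "M" => B₀ ⊗[k] J

include S

theorem C_mem_ker (j : J) : (C (j : C') : (P').toExtension.Ring) ∈ (P').toExtension.ker := by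
  show algebraMap (P').toExtension.Ring R (C (j : C')) = 0
  rw [algebraMap_toExtension]
  refine (aeval_C _ _).trans ?_
  rw [← Ideal.mem_bot, ← S.J_R]
  exact Ideal.mem_map_of_mem _ j.2

/-- The cocycles of lifts. -/
def IsCan (φ : (P').toExtension.Cotangent →ₗ[R] M) : Prop :=
  ∀ j : J, φ (Algebra.Extension.Cotangent.mk ⟨C (j : C'), C_mem_ker S j⟩) = 1 ⊗ₜ j

theorem cc_C (w : L0 P' →ₗ[R] M) (j : J) :
    (w ∘ₗ (P').toExtension.cotangentComplex)
      (Algebra.Extension.Cotangent.mk ⟨C (j : C'), C_mem_ker S j⟩) = 0 := by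
  rw [LinearMap.comp_apply, Algebra.Extension.cotangentComplex_mk]
  show w ((1 : R) ⊗ₜ KaehlerDifferential.D C' (P').toExtension.Ring (algebraMap C' _ (j : C'))) = 0
  rw [Derivation.map_algebraMap, tmul_zero, map_zero]

theorem isCan_of_homToT1_eq {φ φ' : (P').toExtension.Cotangent →ₗ[R] M}
    (h : homToT1 P' M φ' = homToT1 P' M φ) (hφ : IsCan S φ) : IsCan S φ' := by
  rw [← sub_eq_zero, ← map_sub, ← LinearMap.mem_ker, GrothLib.CotT.ker_homToT1] at h
  obtain ⟨w, hw⟩ := h
  intro j
  have := LinearMap.congr_fun hw (Algebra.Extension.Cotangent.mk ⟨C (j : C'), C_mem_ker S j⟩)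
  rw [LinearMap.lcomp_apply', cc_C S w j, LinearMap.sub_apply, eq_comm, sub_eq_zero, hφ] at this
  exact this

omit S in
/-- The reduction of variables. -/
abbrev red (ε : C' →ₐ[k] k) : MvPolynomial R C' →+* MvPolynomial R k :=
  MvPolynomial.map ε.toRingHom

theorem algebraMap_red₀ (p : MvPolynomial R C') :
    aeval (fun r : R => algebraMap R B₀ r) (red ε p) = algebraMap R B₀ (aeval (fun r : R => r) p) := by
  induction p using MvPolynomial.induction_on with
  | C c => rw [map_C, aeval_C, aeval_C, S.comm]; first | done | rfl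
  | add a b ha hb => rw [map_add, map_add, ha, hb, map_add, map_add]
  | mul_X a i ha => rw [map_mul, map_mul, ha, map_mul, map_mul, map_X, aeval_X, aeval_X]

theorem algebraMap_red (p : (P').toExtension.Ring) :
    aeval (fun r : R => algebraMap R B₀ r) (red ε p) = algebraMap R B₀ (algebraMap (P').toExtension.Ring R p) := by
  rw [algebraMap_toExtension]
  exact algebraMap_red₀ S p

local notation "Q" => fibrePres k R B₀ (Setting.surj S)

/-- The reduction of variables, between the rings of the two presentations. -/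
abbrev redQ : (P').toExtension.Ring →+* (Q).toExtension.Ring := red ε (R := R)

theorem algebraMap_redQ (p : (P').toExtension.Ring) :
    algebraMap (Q).toExtension.Ring B₀ (redQ S p) = algebraMap R B₀ (algebraMap (P').toExtension.Ring R p) := by
  rw [algebraMap_toExtension]
  exact algebraMap_red S p

theorem redQ_C (c : C') : redQ S (algebraMap C' (P').toExtension.Ring c) = algebraMap k (Q).toExtension.Ring (ε c) :=
  MvPolynomial.map_C _ c

theorem redQ_X (r : R) : redQ S (X r : MvPolynomial R C') = (X r : MvPolynomial R k) := MvPolynomial.map_X _ r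

theorem red_mem_ker (i : (P').toExtension.ker) : redQ S (i : (P').toExtension.Ring) ∈ (Q).toExtension.ker := by
  show algebraMap (Q).toExtension.Ring B₀ (redQ S (i : (P').toExtension.Ring)) = 0
  refine (algebraMap_redQ S (i : (P').toExtension.Ring)).trans ?_
  rw [show algebraMap (P').toExtension.Ring R i = 0 from i.2, map_zero]

theorem exists_red_eq (x : (Q).toExtension.ker) :
    ∃ i : (P').toExtension.ker, redQ S (i : (P').toExtension.Ring) = x.1 := by
  obtain ⟨p, hp⟩ : ∃ p : (P').toExtension.Ring, redQ S p = x.1 :=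
    MvPolynomial.map_surjective ε.toRingHom (fun c => ⟨algebraMap k C' c, ε.commutes c⟩) x.1
  have h0 : algebraMap (P').toExtension.Ring R p ∈ (RingHom.ker ε).map (algebraMap C' R) := by
    rw [← S.ker, RingHom.mem_ker, ← algebraMap_redQ S, hp]
    exact x.2
  have hle : (RingHom.ker ε).map (algebraMap C' R) ≤
      (((RingHom.ker ε).map (algebraMap C' (P').toExtension.Ring)).map (algebraMap (P').toExtension.Ring R)) := by
    rw [Ideal.map_map, ← IsScalarTower.algebraMap_eq]
  obtain ⟨q, hq, e⟩ := (Ideal.mem_map_iff_of_surjective _ (GrothLib.CotT.algebraMap_surjective P')).1 (hle h0)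
  refine ⟨⟨p - q, show algebraMap (P').toExtension.Ring R (p - q) = 0 by rw [map_sub, e, sub_self]⟩, ?_⟩
  have : redQ S q = 0 := by
    refine (Ideal.map_le_iff_le_comap.2 fun c hc => ?_ : _ ≤ RingHom.ker (redQ S)) hq
    show redQ S (algebraMap C' (P').toExtension.Ring c) = 0
    rw [redQ_C, show ε c = 0 from hc, map_zero]
  show redQ S (p - q) = _
  rw [map_sub, this, sub_zero]
  exact hp

/-- Kernel elements killed by the reduction lie in `m I + J P`. -/
theorem mem_of_red_eq_zero (i : (P').toExtension.ker) (h : redQ S (i : (P').toExtension.Ring) = 0) :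
    (i : (P').toExtension.Ring) ∈ (RingHom.ker ε).map (algebraMap C' (P').toExtension.Ring) * (P').toExtension.ker ⊔
      J.map (algebraMap C' (P').toExtension.Ring) := by
  let D := C' ⧸ J
  letI : Algebra D R := (Ideal.Quotient.lift J (algebraMap C' R) fun c hc => by
    rw [← Ideal.mem_bot, ← S.J_R]; exact Ideal.mem_map_of_mem _ hc).toAlgebra
  haveI : IsScalarTower C' D R := IsScalarTower.of_algebraMap_eq fun _ => rfl
  haveI := S.flatR
  let A := MvPolynomial R D
  let ev : A →ₐ[D] R := aeval fun r => r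
  let L := RingHom.ker ev
  haveI : Module.Flat D (A ⧸ L) :=
    Module.Flat.of_linearEquiv (Ideal.quotientKerAlgEquivOfSurjective (f := ev) fun r => ⟨X r, aeval_X _ r⟩).toLinearEquiv
  let μ : (P').toExtension.Ring →+* A := MvPolynomial.map (Ideal.Quotient.mk J)
  have hev : ∀ p, ev (μ p) = algebraMap (P').toExtension.Ring R p := fun p => by
    rw [algebraMap_toExtension]
    exact aeval_map_algebraMap D (fun r : R => r) p
  have hμ : Function.Surjective μ := MvPolynomial.map_surjective _ Ideal.Quotient.mk_surjective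
  have hμk : RingHom.ker μ = J.map (algebraMap C' (P').toExtension.Ring) := by
    show RingHom.ker (MvPolynomial.map (σ := R) (Ideal.Quotient.mk J)) = J.map (C : C' →+* MvPolynomial R C')
    rw [MvPolynomial.ker_map, Ideal.mk_ker]
  have hm : (i : (P').toExtension.Ring) ∈ (RingHom.ker ε).map (algebraMap C' (P').toExtension.Ring) := by
    have h' : (i : (P').toExtension.Ring) ∈ RingHom.ker (MvPolynomial.map (σ := R) ε.toRingHom) := h
    rw [MvPolynomial.ker_map] at h'
    exact h'
  have eμ : μ.comp (algebraMap C' (P').toExtension.Ring) = (algebraMap D A).comp (Ideal.Quotient.mk J) :=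
    RingHom.ext fun c => MvPolynomial.map_C _ c
  have h1 : μ i ∈ L ⊓ ((RingHom.ker ε).map (Ideal.Quotient.mk J)).map (algebraMap D A) := by
    refine ⟨(hev _).trans i.2, ?_⟩
    rw [Ideal.map_map]
    have := Ideal.mem_map_of_mem μ hm
    rw [Ideal.map_map] at this
    rw [eμ] at this
    exact this
  have h2 := GrothLib.DefLift.inf_map_le_mul _ L h1
  have h3 : ((RingHom.ker ε).map (Ideal.Quotient.mk J)).map (algebraMap D A) * L ≤
      ((RingHom.ker ε).map (algebraMap C' (P').toExtension.Ring) * (P').toExtension.ker).map μ := by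
    rw [Ideal.map_mul]
    refine Ideal.mul_mono (le_of_eq ?_) fun a ha => ?_
    · rw [Ideal.map_map, Ideal.map_map]
      rw [eμ]
    · obtain ⟨p, rfl⟩ := hμ a
      exact Ideal.mem_map_of_mem μ ((hev p).symm.trans ha)
  have h4 := h3 h2
  rw [← Ideal.mem_comap, Ideal.comap_map_of_surjective μ hμ, ← RingHom.ker_eq_comap_bot, hμk] at h4
  exact h4

/-- Vanishing cocycles kill kernel elements reducing to zero. -/
theorem eq_zero_of_red (φ : (P').toExtension.Cotangent →ₗ[R] M)
    (hφ : ∀ j : J, φ (Algebra.Extension.Cotangent.mk ⟨C (j : C'), C_mem_ker S j⟩) = 0)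
    (i : (P').toExtension.ker) (h : redQ S (i : (P').toExtension.Ring) = 0) :
    φ (Algebra.Extension.Cotangent.mk i) = 0 := by
  let F : Submodule (P').toExtension.Ring (P').toExtension.ker :=
    { carrier := {x | φ (Algebra.Extension.Cotangent.mk x) = 0}
      add_mem' := fun {a b} ha hb => by
        show φ (Algebra.Extension.Cotangent.mk (a + b)) = 0
        rw [map_add, map_add, ha, hb, add_zero]
      zero_mem' := by show φ (Algebra.Extension.Cotangent.mk 0) = 0; rw [map_zero, map_zero]
      smul_mem' := fun r x hx => by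
        show φ (Algebra.Extension.Cotangent.mk (r • x)) = 0
        rw [map_smul, ← algebraMap_smul R r, map_smul, hx, smul_zero] }
  let K : Ideal (P').toExtension.Ring := F.map (P').toExtension.ker.subtype
  suffices hK : (i : (P').toExtension.Ring) ∈ K by
    obtain ⟨x, hx, e⟩ := hK
    rwa [← Subtype.ext (show (x : (P').toExtension.Ring) = i from e)]
  refine (sup_le ?_ ?_ : _ ≤ K) (mem_of_red_eq_zero S i h)
  · rw [Ideal.mul_le]
    intro a ha b hb
    refine ⟨⟨a * b, Ideal.mul_mem_left _ a hb⟩, ?_, rfl⟩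
    show φ (Algebra.Extension.Cotangent.mk (a • ⟨b, hb⟩)) = 0
    rw [map_smul, ← algebraMap_smul R a, map_smul, ← IsScalarTower.algebraMap_smul B₀ (algebraMap _ R a)]
    have : algebraMap R B₀ (algebraMap (P').toExtension.Ring R a) = 0 := by
      have h1 : algebraMap (P').toExtension.Ring R a ∈
          ((RingHom.ker ε).map (algebraMap C' (P').toExtension.Ring)).map (algebraMap (P').toExtension.Ring R) :=
        Ideal.mem_map_of_mem _ ha
      rw [Ideal.map_map, ← IsScalarTower.algebraMap_eq, ← S.ker] at h1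
      exact h1
    rw [this, zero_smul]
  · rw [Ideal.map_le_iff_le_comap]
    exact fun c hc => ⟨⟨C c, C_mem_ker S ⟨c, hc⟩⟩, hφ ⟨c, hc⟩, rfl⟩

theorem exists_pull (ψ : (Q).toExtension.Cotangent →ₗ[B₀] M) :
    ∃ φ : (P').toExtension.Cotangent →ₗ[R] M, ∀ i : (P').toExtension.ker,
      φ (Algebra.Extension.Cotangent.mk i) = ψ (Algebra.Extension.Cotangent.mk ⟨_, red_mem_ker S i⟩) := by
  let G : (P').toExtension.ker → M := fun i => ψ (Algebra.Extension.Cotangent.mk ⟨_, red_mem_ker S i⟩)
  have hwd : ∀ i j : (P').toExtension.ker,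
      Algebra.Extension.Cotangent.mk i = Algebra.Extension.Cotangent.mk j → G i = G j := by
    intro i j hij
    refine congrArg ψ ?_
    rw [← sub_eq_zero, ← map_sub, Algebra.Extension.Cotangent.mk_eq_zero_iff] at hij
    rw [← sub_eq_zero, ← map_sub, Algebra.Extension.Cotangent.mk_eq_zero_iff]
    show redQ S (i : (P').toExtension.Ring) - redQ S (j : (P').toExtension.Ring) ∈ _
    rw [← map_sub]
    have h2 : ((P').toExtension.ker ^ 2).map (redQ S) ≤ (Q).toExtension.ker ^ 2 := by
      rw [Ideal.map_pow]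
      refine Ideal.pow_right_mono (Ideal.map_le_iff_le_comap.2 fun a ha => ?_) 2
      exact red_mem_ker S ⟨a, ha⟩
    exact h2 (Ideal.mem_map_of_mem _ hij)
  let s := Function.surjInv (Algebra.Extension.Cotangent.mk_surjective (P := (P').toExtension))
  have hs : ∀ c, Algebra.Extension.Cotangent.mk (s c) = c :=
    Function.surjInv_eq (Algebra.Extension.Cotangent.mk_surjective (P := (P').toExtension))
  have hadd : ∀ i j, G (i + j) = G i + G j := fun i j => by
    simp only [G, ← map_add]
    exact congrArg (fun z => ψ (Algebra.Extension.Cotangent.mk z)) (Subtype.ext (map_add (redQ S) _ _))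
  refine ⟨{ toFun := fun c => G (s c), map_add' := fun a b => ?_, map_smul' := fun r c => ?_ }, fun i => hwd _ _ (hs _)⟩
  · rw [← hadd]; exact hwd _ _ (by rw [hs, map_add, hs, hs])
  · obtain ⟨p, rfl⟩ := GrothLib.CotT.algebraMap_surjective P' r
    show G (s _) = algebraMap (P').toExtension.Ring R p • G (s c)
    rw [hwd (s (algebraMap (P').toExtension.Ring R p • c)) (p • s c) (by rw [hs, map_smul, hs, algebraMap_smul])]
    show ψ (Algebra.Extension.Cotangent.mk _) = _
    rw [show (⟨_, red_mem_ker S (p • s c)⟩ : (Q).toExtension.ker) =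
        (redQ S p : (Q).toExtension.Ring) • ⟨_, red_mem_ker S (s c)⟩ from Subtype.ext (map_mul (redQ S) p _),
      map_smul, ← algebraMap_smul B₀ (redQ S p : (Q).toExtension.Ring), map_smul,
      ← IsScalarTower.algebraMap_smul B₀ (algebraMap (P').toExtension.Ring R p)]
    congr 1
    exact algebraMap_redQ S p

theorem exists_of_vanish (φ : (P').toExtension.Cotangent →ₗ[R] M)
    (hφ : ∀ j : J, φ (Algebra.Extension.Cotangent.mk ⟨C (j : C'), C_mem_ker S j⟩) = 0) :
    ∃ ψ : (Q).toExtension.Cotangent →ₗ[B₀] M, ∀ i : (P').toExtension.ker,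
      φ (Algebra.Extension.Cotangent.mk i) = ψ (Algebra.Extension.Cotangent.mk ⟨_, red_mem_ker S i⟩) := by
  let G : (Q).toExtension.ker → M := fun x => φ (Algebra.Extension.Cotangent.mk (exists_red_eq S x).choose)
  have hG : ∀ (i : (P').toExtension.ker) (x : (Q).toExtension.ker), redQ S (i : (P').toExtension.Ring) = x.1 →
      G x = φ (Algebra.Extension.Cotangent.mk i) := fun i x hix => by
    rw [← sub_eq_zero, ← map_sub, ← map_sub]
    refine eq_zero_of_red S φ hφ _ ?_
    show redQ S ((_ : (P').toExtension.Ring) - _) = 0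
    rw [map_sub, (exists_red_eq S x).choose_spec, hix, sub_self]
  have hadd : ∀ x y, G (x + y) = G x + G y := fun x y => by
    rw [hG ((exists_red_eq S x).choose + (exists_red_eq S y).choose) (x + y) (by
      show redQ S ((_ : (P').toExtension.Ring) + _) = _
      rw [map_add, (exists_red_eq S x).choose_spec, (exists_red_eq S y).choose_spec]; rfl), map_add, map_add]
  have hmul : ∀ (q : (Q).toExtension.Ring) (x : (Q).toExtension.ker), G (q • x) = algebraMap _ B₀ q • G x := by
    intro q x
    obtain ⟨p, hp⟩ : ∃ p : (P').toExtension.Ring, redQ S p = q :=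
      MvPolynomial.map_surjective ε.toRingHom (fun c => ⟨algebraMap k C' c, ε.commutes c⟩) q
    rw [hG (p • (exists_red_eq S x).choose) (q • x) (by
      show redQ S (p * (_ : (P').toExtension.Ring)) = _
      rw [map_mul, (exists_red_eq S x).choose_spec]
      rw [hp]; rfl), map_smul, ← algebraMap_smul R p, map_smul,
      ← IsScalarTower.algebraMap_smul B₀ (algebraMap (P').toExtension.Ring R p)]
    congr 1
    rw [← algebraMap_redQ S p, hp]
  have hwd : ∀ x y, Algebra.Extension.Cotangent.mk x = Algebra.Extension.Cotangent.mk y → G x = G y := by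
    intro x y hxy
    rw [← sub_eq_zero, ← map_sub, Algebra.Extension.Cotangent.mk_eq_zero_iff, pow_two] at hxy
    have h0 : G (x - y) = 0 := by
      have key : ∀ z : (Q).toExtension.Ring, z ∈ (Q).toExtension.ker * (Q).toExtension.ker →
          ∃ hz : z ∈ (Q).toExtension.ker, G ⟨z, hz⟩ = 0 := by
        intro z hz
        refine Submodule.mul_induction_on hz (fun a ha b hb => ⟨Ideal.mul_mem_left _ a hb, ?_⟩)
          fun a b ⟨ha, ha'⟩ ⟨hb, hb'⟩ => ⟨add_mem ha hb, ?_⟩
        · refine (hmul a ⟨b, hb⟩).trans ?_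
          rw [show algebraMap (Q).toExtension.Ring B₀ a = 0 from ha, zero_smul]
        · refine (hadd ⟨a, ha⟩ ⟨b, hb⟩).trans ?_
          rw [ha', hb', add_zero]
      obtain ⟨_, h0⟩ := key _ hxy
      exact h0
    have := hadd (x - y) y
    rw [sub_add_cancel, h0, zero_add] at this
    exact this
  let s := Function.surjInv (Algebra.Extension.Cotangent.mk_surjective (P := (Q).toExtension))
  have hs : ∀ c, Algebra.Extension.Cotangent.mk (s c) = c :=
    Function.surjInv_eq (Algebra.Extension.Cotangent.mk_surjective (P := (Q).toExtension))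
  refine ⟨{ toFun := fun c => G (s c), map_add' := fun a b => ?_, map_smul' := fun r c => ?_ },
    fun i => (hG i ⟨_, red_mem_ker S i⟩ rfl).symm.trans (hwd _ _ (hs _).symm)⟩
  · rw [← hadd]; exact hwd _ _ (by rw [hs, map_add, hs, hs])
  · obtain ⟨q, rfl⟩ := GrothLib.CotT.algebraMap_surjective (Q) r
    show G (s _) = algebraMap (Q).toExtension.Ring B₀ q • G (s c)
    rw [← hmul]
    exact hwd _ _ (by rw [hs, map_smul, hs, algebraMap_smul])

/-- Matching maps on differentials. -/
theorem compare_D (w : L0 (Q) →ₗ[B₀] M) (w' : L0 P' →ₗ[R] M)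
    (h : ∀ r, w' ((1 : R) ⊗ₜ KaehlerDifferential.D C' (P').toExtension.Ring (X r : MvPolynomial R C')) =
      w ((1 : B₀) ⊗ₜ KaehlerDifferential.D k (Q).toExtension.Ring (X r : MvPolynomial R k)))
    (p : (P').toExtension.Ring) :
    w' ((1 : R) ⊗ₜ KaehlerDifferential.D C' (P').toExtension.Ring p) =
      w ((1 : B₀) ⊗ₜ KaehlerDifferential.D k (Q).toExtension.Ring (redQ S p)) := by
  refine GrothLib.CotT.ring_induction P' (motive := fun p => w' ((1 : R) ⊗ₜ KaehlerDifferential.D C' (P').toExtension.Ring p) =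
      w ((1 : B₀) ⊗ₜ KaehlerDifferential.D k (Q).toExtension.Ring (redQ S p))) (fun c => ?_)
      (fun a b ha hb => ?_) (fun a i ha => ?_) p
  · show w' _ = w _
    rw [show (C c : MvPolynomial R C') = algebraMap C' (P').toExtension.Ring c from rfl, redQ_C,
      Derivation.map_algebraMap, Derivation.map_algebraMap, tmul_zero, tmul_zero, map_zero, map_zero]
  · rw [map_add, map_add, tmul_add, map_add, ha, hb, map_add, tmul_add, map_add]
  · have hi : w' ((1 : R) ⊗ₜ KaehlerDifferential.D C' (P').toExtension.Ring (GrothLib.CotT.Xv P' i)) =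
        w ((1 : B₀) ⊗ₜ KaehlerDifferential.D k (Q).toExtension.Ring (redQ S (GrothLib.CotT.Xv P' i))) := by
      show w' _ = w ((1 : B₀) ⊗ₜ KaehlerDifferential.D k (Q).toExtension.Ring (redQ S (X i : MvPolynomial R C')))
      rw [redQ_X]; exact h i
    have e : ∀ (c : (P').toExtension.Ring) x, w' ((1 : R) ⊗ₜ (c • x : Ω[(P').toExtension.Ring⁄C'])) =
        algebraMap R B₀ (algebraMap (P').toExtension.Ring R c) • w' ((1 : R) ⊗ₜ x) := fun c x => by
      rw [tmul_smul, ← algebraMap_smul R c ((1 : R) ⊗ₜ[(P').toExtension.Ring] x), map_smul,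
        IsScalarTower.algebraMap_smul B₀ (algebraMap (P').toExtension.Ring R c)]
    have e' : ∀ (c : (Q).toExtension.Ring) x, w ((1 : B₀) ⊗ₜ (c • x : Ω[(Q).toExtension.Ring⁄k])) =
        algebraMap (Q).toExtension.Ring B₀ c • w ((1 : B₀) ⊗ₜ x) := fun c x => by
      rw [tmul_smul, ← algebraMap_smul B₀ c ((1 : B₀) ⊗ₜ[(Q).toExtension.Ring] x), map_smul]
    rw [Derivation.leibniz, map_mul (redQ S), Derivation.leibniz, tmul_add, tmul_add, map_add, map_add, e, e, e', e',
      ha, hi, algebraMap_redQ, algebraMap_redQ]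

theorem pull_coboundary_iff (ψ : (Q).toExtension.Cotangent →ₗ[B₀] M) (φ : (P').toExtension.Cotangent →ₗ[R] M)
    (h : ∀ i : (P').toExtension.ker,
      φ (Algebra.Extension.Cotangent.mk i) = ψ (Algebra.Extension.Cotangent.mk ⟨_, red_mem_ker S i⟩)) :
    homToT1 P' M φ = 0 ↔ homToT1 (Q) M ψ = 0 := by
  rw [← LinearMap.mem_ker, ← LinearMap.mem_ker, GrothLib.CotT.ker_homToT1, GrothLib.CotT.ker_homToT1]
  have bP : ∀ r, ((1 : R) ⊗ₜ KaehlerDifferential.D C' (P').toExtension.Ring (X r : MvPolynomial R C') : L0 P') =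
      (P').cotangentSpaceBasis r := fun r => (Algebra.Generators.cotangentSpaceBasis_apply (P').toGenerators r).symm
  have bQ : ∀ r, ((1 : B₀) ⊗ₜ KaehlerDifferential.D k (Q).toExtension.Ring (X r : MvPolynomial R k) : L0 (Q)) =
      (Q).cotangentSpaceBasis r := fun r => (Algebra.Generators.cotangentSpaceBasis_apply (Q).toGenerators r).symm
  constructor
  · rintro ⟨w', hw'⟩
    let w : L0 (Q) →ₗ[B₀] M := (Q).cotangentSpaceBasis.constr B₀ fun r => w' ((P').cotangentSpaceBasis r)
    refine ⟨w, LinearMap.ext fun c => ?_⟩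
    obtain ⟨x, rfl⟩ := Algebra.Extension.Cotangent.mk_surjective c
    obtain ⟨i, hi⟩ := exists_red_eq S x
    rw [show x = ⟨_, red_mem_ker S i⟩ from Subtype.ext hi.symm, ← h i, ← hw']
    rw [LinearMap.lcomp_apply', LinearMap.lcomp_apply', LinearMap.comp_apply, LinearMap.comp_apply,
      Algebra.Extension.cotangentComplex_mk, Algebra.Extension.cotangentComplex_mk]
    refine (compare_D S w w' (fun r => ?_) _).symm
    rw [bP, bQ]; simp [w]
  · rintro ⟨w, hw⟩
    let w' : L0 P' →ₗ[R] M := (P').cotangentSpaceBasis.constr R fun r => w ((Q).cotangentSpaceBasis r)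
    refine ⟨w', LinearMap.ext fun c => ?_⟩
    obtain ⟨i, rfl⟩ := Algebra.Extension.Cotangent.mk_surjective c
    rw [h i, ← hw]
    rw [LinearMap.lcomp_apply', LinearMap.lcomp_apply', LinearMap.comp_apply, LinearMap.comp_apply,
      Algebra.Extension.cotangentComplex_mk, Algebra.Extension.cotangentComplex_mk]
    refine compare_D S w w' (fun r => ?_) _
    rw [bP, bQ]; simp [w']

/-- The extension of a lift. -/
def toExt (L : Lift C' J R) : Exal.Ext C' R M where
  E := L.E
  proj := L.π
  incl := (exists_ext S L).choose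
  isExtension := (exists_ext S L).choose_spec.choose

theorem toExt_incl (L : Lift C' J R) (y : L.E) (j : J) :
    (toExt S L).incl (algebraMap R B₀ (L.π y) ⊗ₜ j) = algebraMap C' L.E j * y :=
  (exists_ext S L).choose_spec.choose_spec y j

theorem rel_iff (a b : Lift C' J R) :
    Lift.Rel a b ↔ GrothLib.CotT.extToT1 P' (toExt S a) = GrothLib.CotT.extToT1 P' (toExt S b) := by
  constructor
  · rintro ⟨e, he⟩
    refine GrothLib.CotT.extToT1_congr P' ⟨e, he, fun z => ?_⟩
    induction z using TensorProduct.induction_on with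
    | zero => simp
    | add p q hp hq => rw [map_add, map_add, map_add]; exact congrArg₂ (· + ·) hp hq
    | tmul c j =>
      obtain ⟨y, rfl⟩ := (show Function.Surjective (algebraMap R B₀) from S.surj).comp a.surj c
      show e ((toExt S a).incl (algebraMap R B₀ (a.π y) ⊗ₜ j)) = (toExt S b).incl (algebraMap R B₀ (a.π y) ⊗ₜ j)
      rw [toExt_incl, ← he, toExt_incl, map_mul, AlgEquiv.commutes]
  · intro h
    obtain ⟨e⟩ := Quotient.exact (GrothLib.CotT.exalToT1_injective P'
      (a₁ := (toExt S a).cl) (a₂ := (toExt S b).cl) h)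
    exact ⟨e.toAlgEquiv, e.proj_apply⟩

theorem exists_isCan_cocycle (L : Lift C' J R) :
    ∃ φ, IsCan S φ ∧ homToT1 P' M φ = GrothLib.CotT.extToT1 P' (toExt S L) := by
  obtain ⟨g⟩ := GrothLib.CotT.exists_lift_hom P' (toExt S L)
  refine ⟨GrothLib.CotT.cocycle P' g, fun j => ?_, (GrothLib.CotT.extToT1_eq P' g).symm⟩
  apply (toExt S L).isExtension.incl_injective
  rw [GrothLib.CotT.incl_cocycle]
  refine (AlgHom.commutes g.1 (j : C')).trans ?_
  have := toExt_incl S L 1 j
  rw [map_one, map_one, mul_one] at this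
  exact this.symm

theorem exists_lift_of_isCan (φ : (P').toExtension.Cotangent →ₗ[R] M) (hφ : IsCan S φ) :
    ∃ L : Lift C' J R, GrothLib.CotT.extToT1 P' (toExt S L) = homToT1 P' M φ := by
  letI : Module (P').toExtension.Ring M := Module.compHom M (algebraMap (P').toExtension.Ring R)
  haveI : IsScalarTower (P').toExtension.Ring R M := ⟨fun x y z => by
    rw [Algebra.smul_def, mul_smul]; rfl⟩
  obtain ⟨X, g, hg⟩ := GrothLib.CotT.exists_ext_cocycle P' φ
  have hX : ∀ j : J, X.incl (1 ⊗ₜ j) = algebraMap C' X.E j := fun j => by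
    rw [← hφ j, ← hg, GrothLib.CotT.incl_cocycle]
    exact AlgHom.commutes g.1 (j : C')
  obtain ⟨hflat, hker, hform⟩ := exists_lift_of_ext S X hX
  let L : Lift C' J R := ⟨X.E, hflat, X.proj, X.isExtension.proj_surjective, hker⟩
  refine ⟨L, (GrothLib.CotT.extToT1_congr P' (?_ : Exal.Ext.Equiv (toExt S L) X)).trans
    ((GrothLib.CotT.extToT1_eq P' g).trans (by rw [hg]))⟩
  refine ⟨AlgEquiv.refl, fun _ => rfl, fun z => ?_⟩
  induction z using TensorProduct.induction_on with
  | zero => simp
  | add p q hp hq => rw [map_add, map_add, map_add]; exact congrArg₂ (· + ·) hp hq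
  | tmul c j =>
    obtain ⟨y, rfl⟩ := (show Function.Surjective (algebraMap R B₀) from S.surj).comp L.surj c
    exact (toExt_incl S L y j).trans (hform y j).symm

/-- Lifts up to isomorphism are in bijection with `T¹` of the special fibre, once one exists. -/
theorem nonempty_equiv (L₀ : Lift C' J R) :
    Nonempty (Quot (Lift.Rel (C' := C') (J := J) (R := R)) ≃ T1 (canon k B₀) M) := by
  obtain ⟨φ₀, hφ₀, -⟩ := exists_isCan_cocycle S L₀
  let T := {z : T1 P' M // ∃ φ, IsCan S φ ∧ homToT1 P' M φ = z}
  let F : Quot (Lift.Rel (C' := C') (J := J) (R := R)) → T :=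
    Quot.lift (fun L => ⟨_, exists_isCan_cocycle S L⟩) fun a b h => Subtype.ext ((rel_iff S a b).1 h)
  have hF : Function.Bijective F := by
    refine ⟨?_, fun ⟨z, φ, hφ, hz⟩ => ?_⟩
    · rintro ⟨a⟩ ⟨b⟩ h
      exact Quot.sound ((rel_iff S a b).2 (congrArg Subtype.val h))
    · obtain ⟨L, hL⟩ := exists_lift_of_isCan S φ hφ
      exact ⟨Quot.mk _ L, Subtype.ext (hL.trans hz)⟩
  choose pull hpull using exists_pull S
  let s := Function.surjInv (GrothLib.CotT.homToT1_surjective (Q) M)
  have hs : ∀ z, homToT1 (Q) M (s z) = z := Function.surjInv_eq _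
  have hcan : ∀ ψ, IsCan S (φ₀ + pull ψ) := fun ψ j => by
    rw [LinearMap.add_apply, hφ₀ j, hpull]
    have : Algebra.Extension.Cotangent.mk (⟨_, red_mem_ker S ⟨C (j : C'), C_mem_ker S j⟩⟩ : (Q).toExtension.ker) = 0 := by
      rw [show (⟨_, red_mem_ker S ⟨C (j : C'), C_mem_ker S j⟩⟩ : (Q).toExtension.ker) = 0 from
        Subtype.ext ((MvPolynomial.map_C _ _).trans (by
          rw [show ε.toRingHom (j : C') = 0 from S.J_le j.2, map_zero]; rfl)), map_zero]
    rw [this, map_zero, add_zero]
  let G : T1 (Q) M → T := fun z => ⟨_, _, hcan (s z), rfl⟩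
  have eP : ∀ x y, homToT1 P' M (x - y) = 0 ↔ homToT1 P' M x = homToT1 P' M y := fun x y => by
    have h1 : homToT1 P' M x = homToT1 P' M (x - y) + homToT1 P' M y := by
      conv_lhs => rw [← sub_add_cancel x y]
      exact map_add _ _ _
    refine ⟨fun h => h1.trans ?_, fun h => ?_⟩
    · rw [h]; exact zero_add _
    · exact add_eq_right.1 (h1.symm.trans h)
  have eQ : ∀ x y, homToT1 (Q) M (x - y) = 0 ↔ homToT1 (Q) M x = homToT1 (Q) M y := fun x y => by
    have h1 : homToT1 (Q) M x = homToT1 (Q) M (x - y) + homToT1 (Q) M y := by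
      conv_lhs => rw [← sub_add_cancel x y]
      exact map_add _ _ _
    refine ⟨fun h => h1.trans ?_, fun h => ?_⟩
    · rw [h]; exact zero_add _
    · exact add_eq_right.1 (h1.symm.trans h)
  have hG : Function.Bijective G := by
    refine ⟨fun a b h => ?_, fun ⟨z, φ, hφ, hz⟩ => ?_⟩
    · have h' := congrArg Subtype.val h
      simp only [G, map_add, add_right_inj] at h'
      rw [← hs a, ← hs b]
      refine (eQ _ _).1 ((pull_coboundary_iff S (s a - s b) (pull (s a) - pull (s b)) fun i => ?_).1 ((eP _ _).2 h'))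
      rw [LinearMap.sub_apply, LinearMap.sub_apply, hpull, hpull]
    · obtain ⟨ψ, hψ⟩ := exists_of_vanish S (φ - φ₀) (fun j => by rw [LinearMap.sub_apply, hφ j, hφ₀ j, sub_self])
      refine ⟨homToT1 (Q) M ψ, Subtype.ext (Eq.trans ?_ hz)⟩
      show homToT1 P' M (φ₀ + pull (s _)) = homToT1 P' M φ
      refine (eP _ _).1 ((pull_coboundary_iff S (s (homToT1 (Q) M ψ) - ψ) _ fun i => ?_).2 ((eQ _ _).2 (hs _)))
      rw [LinearMap.sub_apply, LinearMap.sub_apply, LinearMap.add_apply, hpull, ← hψ, LinearMap.sub_apply]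
      abel
  obtain ⟨e⟩ := (GrothLib.CotT.nonempty_linearEquiv (fibrePres k R B₀ S.surj) (canon k B₀) M).2.1
  exact ⟨(Equiv.ofBijective F hF).trans ((Equiv.ofBijective G hG).symm.trans e.toEquiv)⟩

end GrothLib.AffDef
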