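import Groth.Agent.Lib.CotT.Exal
import Groth.Agent.Lib.Flatness.Criterion
import Groth.Agent.Lib.Flatness.InjMod

/-!
# Lifts of flat algebras along semi-small extensions of the base, as extensions
-/

universe u

noncomputable section

namespace GrothLib.AffDef

open TensorProduct _root_.CotT

attribute [local instance] Exal.opModule Exal.isCentralScalar_opModule

variable {k C' R B₀ : Type u} [Field k] [CommRing C'] [Algebra k C'] [CommRing R] [Algebra C' R]
  [CommRing B₀] [Algebra k B₀] [Algebra R B₀]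

/-- The hypotheses: `C'` has residue field `k`, `J` is killed by the maximal ideal, `R` is flat over `C' ⧸ J`
with special fibre `B₀`. -/
structure Setting (ε : C' →ₐ[k] k) (J : Ideal C') (R B₀ : Type u) [CommRing R] [Algebra C' R] [CommRing B₀]
    [Algebra k B₀] [Algebra R B₀] : Prop where
  mul_J : RingHom.ker ε * J = ⊥
  J_le : J ≤ RingHom.ker ε
  nil : IsNilpotent (RingHom.ker ε)
  J_R : J.map (algebraMap C' R) = ⊥
  flatR : ∀ [Algebra (C' ⧸ J) R] [IsScalarTower C' (C' ⧸ J) R], Module.Flat (C' ⧸ J) R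
  surj : ∀ b : B₀, ∃ r, algebraMap R B₀ r = b
  ker : RingHom.ker (algebraMap R B₀) = (RingHom.ker ε).map (algebraMap C' R)
  comm : ∀ c, algebraMap R B₀ (algebraMap C' R c) = algebraMap k B₀ (ε c)

/-- A flat lift of `R` over `C'`. -/
structure Lift (C' : Type u) [CommRing C'] (J : Ideal C') (R : Type u) [CommRing R] [Algebra C' R] :
    Type (u + 1) where
  E : Type u
  [commRing : CommRing E]
  [algebra : Algebra C' E]
  flat : Module.Flat C' E
  π : E →ₐ[C'] R
  surj : Function.Surjective π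
  ker : RingHom.ker π = J.map (algebraMap C' E)

attribute [instance] Lift.commRing Lift.algebra

namespace Lift

variable {J : Ideal C'}

/-- Lifts isomorphic over `R`. -/
def Rel (a b : Lift C' J R) : Prop := ∃ e : a.E ≃ₐ[C'] b.E, ∀ y, b.π (e y) = a.π y

end Lift

variable {ε : C' →ₐ[k] k} {J : Ideal C'} (S : Setting ε J R B₀)

include S

theorem J_smul_eq (c : C') (j : J) : c • j = ε c • j := by
  refine Subtype.ext ?_
  show c * (j : C') = ε c • (j : C')
  have h : (c - algebraMap k C' (ε c)) * (j : C') ∈ RingHom.ker ε * J :=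
    Ideal.mul_mem_mul (by rw [RingHom.mem_ker, map_sub, AlgHom.commutes]; simp) j.2
  rw [S.mul_J, Ideal.mem_bot, sub_mul, sub_eq_zero] at h
  rw [h, Algebra.smul_def]

section Middle

variable (E : Type u) [CommRing E] [Algebra C' E] (π : E →ₐ[C'] R) (hπ : Function.Surjective π)
  (hk : RingHom.ker π = J.map (algebraMap C' E))

include hπ hk

theorem surjective_gamma : Function.Surjective ((algebraMap R B₀).comp π.toRingHom) :=
  (show Function.Surjective (algebraMap R B₀) from S.surj).comp hπ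

theorem mem_map_of_gamma (y : E) (hy : algebraMap R B₀ (π y) = 0) :
    y ∈ (RingHom.ker ε).map (algebraMap C' E) := by
  have h : π y ∈ ((RingHom.ker ε).map (algebraMap C' E)).map π.toRingHom := by
    rw [Ideal.map_map, AlgHom.toRingHom_eq_coe, AlgHom.comp_algebraMap, ← S.ker]
    exact hy
  obtain ⟨y', hy', e⟩ := (Ideal.mem_map_iff_of_surjective π.toRingHom hπ).1 h
  have : y - y' ∈ RingHom.ker π := by
    rw [RingHom.mem_ker, map_sub, show π y' = π y from e, sub_self]
  rw [hk] at this
  have := add_mem (Ideal.map_mono S.J_le this) hy'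
  rwa [sub_add_cancel] at this

theorem mul_eq_of_gamma (j : J) (y y' : E) (h : algebraMap R B₀ (π y) = algebraMap R B₀ (π y')) :
    algebraMap C' E j * y = algebraMap C' E j * y' := by
  rw [← sub_eq_zero, ← mul_sub]
  have hm := mem_map_of_gamma S E π hπ hk (y - y') (by rw [map_sub, map_sub, h, sub_self])
  have : algebraMap C' E j * (y - y') ∈ (RingHom.ker ε * J).map (algebraMap C' E) := by
    rw [Ideal.map_mul, mul_comm (Ideal.map _ _)]
    exact Ideal.mul_mem_mul (Ideal.mem_map_of_mem _ j.2) hm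
  rwa [S.mul_J, Ideal.map_bot, Ideal.mem_bot] at this

theorem tmul_eq_zero_of_gamma (j : J) (y : E) (hy : algebraMap R B₀ (π y) = 0) :
    y ⊗ₜ[C'] j = (0 : E ⊗[C'] J) := by
  have hm := mem_map_of_gamma S E π hπ hk y hy
  rw [← Submodule.restrictScalars_mem C', ← Ideal.smul_top_eq_map] at hm
  refine Submodule.smul_induction_on hm (fun c hc z _ => ?_) fun a b ha hb => by rw [add_tmul, ha, hb, add_zero]
  rw [smul_tmul, J_smul_eq S c j, RingHom.mem_ker.1 hc, zero_smul, tmul_zero]

/-- The inclusion `B₀ ⊗ J → E`. -/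
theorem exists_incl : ∃ θ : B₀ ⊗[k] J →+ E,
    ∀ (y : E) (j : J), θ (algebraMap R B₀ (π y) ⊗ₜ j) = algebraMap C' E j * y := by
  let γ := (algebraMap R B₀).comp π.toRingHom
  let s := Function.surjInv (surjective_gamma S E π hπ hk)
  have hs : ∀ b, algebraMap R B₀ (π (s b)) = b := Function.surjInv_eq (surjective_gamma S E π hπ hk)
  let f : B₀ →+ J →+ E := AddMonoidHom.mk' (fun b => AddMonoidHom.mk' (fun j => algebraMap C' E j * s b)
    (fun i j => by rw [Submodule.coe_add, map_add, add_mul])) fun b b' => AddMonoidHom.ext fun j => by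
      simp only [AddMonoidHom.mk'_apply, AddMonoidHom.add_apply, ← mul_add]
      exact mul_eq_of_gamma S E π hπ hk j _ _ (by rw [map_add, map_add, hs, hs, hs])
  refine ⟨TensorProduct.liftAddHom f fun c b j => ?_, fun y j => ?_⟩
  · show algebraMap C' E j * s (c • b) = algebraMap C' E (c • j : J) * s b
    rw [Submodule.coe_smul_of_tower, Algebra.smul_def c (j : C'), map_mul, mul_comm (algebraMap C' E (algebraMap k C' c)), mul_assoc]
    refine mul_eq_of_gamma S E π hπ hk j _ _ ?_
    rw [map_mul, map_mul, hs, hs, AlgHom.commutes, S.comm, AlgHom.commutes, Algebra.smul_def]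
    rfl
  · rw [TensorProduct.liftAddHom_tmul]
    exact mul_eq_of_gamma S E π hπ hk j _ _ (hs _)

/-- `E ⊗ J → B₀ ⊗ J`. -/
theorem exists_reduce : ∃ Ψ : E ⊗[C'] J →+ B₀ ⊗[k] J,
    Function.Bijective Ψ ∧ ∀ (y : E) (j : J), Ψ (y ⊗ₜ j) = algebraMap R B₀ (π y) ⊗ₜ j := by
  let s := Function.surjInv (surjective_gamma S E π hπ hk)
  have hs : ∀ b, algebraMap R B₀ (π (s b)) = b := Function.surjInv_eq (surjective_gamma S E π hπ hk)
  let f : E →+ J →+ B₀ ⊗[k] J := AddMonoidHom.mk' (fun y => AddMonoidHom.mk' (fun j => algebraMap R B₀ (π y) ⊗ₜ j)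
    (fun i j => tmul_add _ _ _)) fun a b => AddMonoidHom.ext fun j => by simp [add_tmul]
  let Ψ : E ⊗[C'] J →+ B₀ ⊗[k] J := TensorProduct.liftAddHom f fun c y j => by
    show algebraMap R B₀ (π (c • y)) ⊗ₜ[k] j = algebraMap R B₀ (π y) ⊗ₜ (c • j)
    rw [Algebra.smul_def, map_mul, map_mul, AlgHom.commutes, S.comm, ← Algebra.smul_def, smul_tmul, J_smul_eq S c j]
  have e : ∀ b b' : E, algebraMap R B₀ (π b) = algebraMap R B₀ (π b') → ∀ j : J, b ⊗ₜ[C'] j = b' ⊗ₜ j :=
    fun b b' h j => by
      rw [← sub_eq_zero, ← sub_tmul]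
      exact tmul_eq_zero_of_gamma S E π hπ hk j _ (by rw [map_sub, map_sub, h, sub_self])
  let g : B₀ →+ J →+ E ⊗[C'] J := AddMonoidHom.mk' (fun b => AddMonoidHom.mk' (fun j => s b ⊗ₜ j)
    (fun i j => tmul_add _ _ _)) fun b b' => AddMonoidHom.ext fun j => by
      simp only [AddMonoidHom.mk'_apply, AddMonoidHom.add_apply, ← add_tmul]
      exact e _ _ (by rw [map_add, map_add, hs, hs, hs]) j
  let Φ : B₀ ⊗[k] J →+ E ⊗[C'] J := TensorProduct.liftAddHom g fun c b j => by
    show s (c • b) ⊗ₜ[C'] j = s b ⊗ₜ (c • j)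
    rw [e (s (c • b)) (algebraMap k C' c • s b) (by
      rw [hs, Algebra.smul_def (algebraMap k C' c), map_mul, map_mul, hs, AlgHom.commutes, S.comm, AlgHom.commutes,
        Algebra.smul_def]; rfl) j, smul_tmul, algebraMap_smul]
  refine ⟨Ψ, Function.bijective_iff_has_inverse.2 ⟨Φ, fun z => ?_, fun z => ?_⟩, fun y j => rfl⟩
  · induction z using TensorProduct.induction_on with
    | zero => simp
    | add a b ha hb => rw [map_add, map_add, ha, hb]
    | tmul y j => exact e _ _ (hs _) j
  · induction z using TensorProduct.induction_on with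
    | zero => simp
    | add a b ha hb => rw [map_add, map_add, ha, hb]
    | tmul b j =>
      show algebraMap R B₀ (π (s b)) ⊗ₜ[k] j = _
      rw [hs]

theorem injective_lTensor_iff (θ : B₀ ⊗[k] J →+ E)
    (hθ : ∀ (y : E) (j : J), θ (algebraMap R B₀ (π y) ⊗ₜ j) = algebraMap C' E j * y) :
    Function.Injective (J.subtype.lTensor E) ↔ Function.Injective θ := by
  obtain ⟨Ψ, hΨ, hΨ'⟩ := exists_reduce S E π hπ hk
  have : ∀ z, θ (Ψ z) = TensorProduct.rid C' E (J.subtype.lTensor E z) := fun z => by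
    induction z using TensorProduct.induction_on with
    | zero => simp
    | add a b ha hb => simp only [map_add, ha, hb]
    | tmul y j => rw [hΨ', hθ]; simp [Algebra.smul_def]
  constructor
  · intro h a b hab
    obtain ⟨a, rfl⟩ := hΨ.2 a
    obtain ⟨b, rfl⟩ := hΨ.2 b
    rw [this, this] at hab
    rw [h ((TensorProduct.rid C' E).injective hab)]
  · intro h a b hab
    exact hΨ.1 (h (by rw [this, this, hab]))

end Middle

/-- A flat lift as an extension of `R` by `B₀ ⊗ J`. -/
theorem exists_ext (L : Lift C' J R) :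
    ∃ (i : B₀ ⊗[k] J →+ L.E) (h : Exal.IsExtension L.π i),
      ∀ (y : L.E) (j : J), i (algebraMap R B₀ (L.π y) ⊗ₜ j) = algebraMap C' L.E j * y := by
  obtain ⟨θ, hθ⟩ := exists_incl S L.E L.π L.surj L.ker
  haveI := L.flat
  have hinj : Function.Injective θ := (injective_lTensor_iff S L.E L.π L.surj L.ker θ hθ).1
    (Module.Flat.lTensor_preserves_injective_linearMap _ J.injective_subtype)
  have hJ : ∀ j : J, L.π (algebraMap C' L.E j) = 0 := fun j => by
    rw [AlgHom.commutes, ← Ideal.mem_bot, ← S.J_R]; exact Ideal.mem_map_of_mem _ j.2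
  have hlift : ∀ b, ∃ y, algebraMap R B₀ (L.π y) = b := surjective_gamma S L.E L.π L.surj L.ker
  refine ⟨θ, ⟨L.surj, hinj, fun y => ⟨fun hy => ?_, ?_⟩, fun x z => ?_⟩, hθ⟩
  · have hy' : y ∈ J.map (algebraMap C' L.E) := L.ker ▸ hy
    induction hy' using Submodule.span_induction with
    | mem a ha =>
      obtain ⟨c, hc, rfl⟩ := ha
      exact ⟨algebraMap R B₀ (L.π 1) ⊗ₜ ⟨c, hc⟩, (hθ 1 ⟨c, hc⟩).trans (mul_one _)⟩
    | zero => exact ⟨0, map_zero _⟩
    | add a b _ _ ha hb =>
      obtain ⟨a', rfl⟩ := ha (by rwa [← RingHom.mem_ker, L.ker])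
      obtain ⟨b', rfl⟩ := hb (by rwa [← RingHom.mem_ker, L.ker])
      exact ⟨a' + b', map_add _ _ _⟩
    | smul c a ha' ha =>
      obtain ⟨z, rfl⟩ := ha (by rwa [← RingHom.mem_ker, L.ker])
      clear hy ha ha'
      induction z using TensorProduct.induction_on with
      | zero => exact ⟨0, by simp⟩
      | add p q hp hq =>
        obtain ⟨p', hp⟩ := hp
        obtain ⟨q', hq⟩ := hq
        exact ⟨p' + q', by rw [map_add, hp, hq, map_add, smul_add]⟩
      | tmul b j =>
        obtain ⟨w, rfl⟩ := hlift b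
        exact ⟨algebraMap R B₀ (L.π (c * w)) ⊗ₜ j, by rw [hθ, hθ, smul_eq_mul]; ring⟩
  · rintro ⟨z, rfl⟩
    induction z using TensorProduct.induction_on with
    | zero => simp
    | add p q hp hq => rw [map_add, map_add, hp, hq, add_zero]
    | tmul b j =>
      obtain ⟨w, rfl⟩ := hlift b
      rw [hθ, map_mul, hJ, zero_mul]
  · induction z using TensorProduct.induction_on with
    | zero => simp
    | add p q hp hq => rw [map_add, mul_add, hp, hq, smul_add, map_add]
    | tmul b j =>
      obtain ⟨w, rfl⟩ := hlift b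
      rw [← IsScalarTower.algebraMap_smul B₀ (L.π x), smul_tmul', smul_eq_mul, ← map_mul, ← map_mul, hθ, hθ]
      ring

/-- An extension whose inclusion is multiplication by `J` is a flat lift. -/
theorem exists_lift_of_ext
    (X : Exal.Ext C' R (B₀ ⊗[k] J)) (h : ∀ j : J, X.incl (1 ⊗ₜ j) = algebraMap C' X.E j) :
    Module.Flat C' X.E ∧ RingHom.ker X.proj = J.map (algebraMap C' X.E) ∧
      ∀ (y : X.E) (j : J), X.incl (algebraMap R B₀ (X.proj y) ⊗ₜ j) = algebraMap C' X.E j * y := by
  have hform : ∀ (y : X.E) (j : J), X.incl (algebraMap R B₀ (X.proj y) ⊗ₜ j) = algebraMap C' X.E j * y := fun y j => by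
    rw [mul_comm, ← h, X.isExtension.mul_incl, ← IsScalarTower.algebraMap_smul B₀ (X.proj y), smul_tmul',
      smul_eq_mul, mul_one]
  have hsurj : ∀ b, ∃ y, algebraMap R B₀ (X.proj y) = b :=
    (show Function.Surjective (algebraMap R B₀) from S.surj).comp X.isExtension.proj_surjective
  have hk : RingHom.ker X.proj = J.map (algebraMap C' X.E) := by
    refine le_antisymm (fun y hy => ?_) (Ideal.map_le_iff_le_comap.2 fun c hc => ?_)
    · obtain ⟨z, rfl⟩ := (X.isExtension.exact y).1 hy
      clear hy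
      induction z using TensorProduct.induction_on with
      | zero => simp
      | add p q hp hq => rw [map_add]; exact add_mem hp hq
      | tmul b j =>
        obtain ⟨w, rfl⟩ := hsurj b
        rw [hform]
        exact Ideal.mul_mem_right _ _ (Ideal.mem_map_of_mem _ j.2)
    · rw [Ideal.mem_comap, RingHom.mem_ker, AlgHom.commutes, ← Ideal.mem_bot, ← S.J_R]
      exact Ideal.mem_map_of_mem _ hc
  refine ⟨?_, hk, hform⟩
  refine GrothLib.Flatness.flat_of_isNilpotent J ?_
    ((injective_lTensor_iff S X.E X.proj X.isExtension.proj_surjective hk X.incl hform).2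
      X.isExtension.incl_injective) ?_
  · obtain ⟨n, hn⟩ := S.nil
    exact ⟨n, le_bot_iff.1 ((Ideal.pow_right_mono S.J_le n).trans hn.le)⟩
  · letI : Algebra (C' ⧸ J) R := (Ideal.Quotient.lift J (algebraMap C' R) fun c hc => by
      rw [← Ideal.mem_bot, ← S.J_R]; exact Ideal.mem_map_of_mem _ hc).toAlgebra
    haveI : IsScalarTower C' (C' ⧸ J) R := IsScalarTower.of_algebraMap_eq fun _ => rfl
    haveI := S.flatR
    let f := X.proj.toLinearMap.liftBaseChange (C' ⧸ J)
    have hf : ∀ y, f ((1 : C' ⧸ J) ⊗ₜ y) = X.proj y := fun y => by simp [f]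
    refine Module.Flat.of_linearEquiv (LinearEquiv.ofBijective f ⟨?_, fun r => ?_⟩)
    · rw [injective_iff_map_eq_zero]
      intro z hz
      obtain ⟨y, rfl⟩ := TensorProduct.mk_surjective C' X.E (C' ⧸ J) Ideal.Quotient.mk_surjective z
      rw [TensorProduct.mk_apply] at hz ⊢
      rw [hf] at hz
      rw [GrothLib.Flatness.one_tmul_eq_zero_iff, Ideal.smul_top_eq_map, Submodule.restrictScalars_mem, ← hk]
      exact hz
    · obtain ⟨y, rfl⟩ := X.isExtension.proj_surjective r
      exact ⟨1 ⊗ₜ y, hf y⟩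

end GrothLib.AffDef
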