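import Groth.Agent.Lib.AffDef26.Scheme
import Groth.Agent.Lib.ArtinFlat.Basic
import Groth.Agent.Lib.ArtSmooth26.Jets
import Mathlib

/-!
# Deformations of the node `xy = 0`
-/

universe u

open CategoryTheory CategoryTheory.Limits AlgebraicGeometry ArtFun ArtFun.Art

noncomputable section

namespace GrothLib.AffDef

section QMap

variable {n : ℕ} {R S : Type u} [CommRing R] [CommRing S] (g : R →+* S) (f : MvPolynomial (Fin n) R)
  (f' : MvPolynomial (Fin n) S)

/-- The map of hypersurface algebras induced by a change of coefficients. -/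
def qMap (h : MvPolynomial.map g f = f') : MvPolynomial (Fin n) R ⧸ Ideal.span {f} →+* MvPolynomial (Fin n) S ⧸ Ideal.span {f'} :=
  Ideal.quotientMap _ (MvPolynomial.map g) (by
    rw [Ideal.span_le, Set.singleton_subset_iff]
    show MvPolynomial.map g f ∈ Ideal.span {f'}
    rw [h]
    exact Ideal.mem_span_singleton_self _)

theorem qMap_mk (h : MvPolynomial.map g f = f') (P : MvPolynomial (Fin n) R) :
    qMap g f f' h (Ideal.Quotient.mk _ P) = Ideal.Quotient.mk _ (MvPolynomial.map g P) := rfl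

theorem qMap_algebraMap (h : MvPolynomial.map g f = f') (r : R) :
    qMap g f f' h (algebraMap R _ r) = algebraMap S _ (g r) := by
  show qMap g f f' h (Ideal.Quotient.mk _ (MvPolynomial.C r)) = _
  rw [qMap_mk, MvPolynomial.map_C]
  rfl

theorem qMap_surjective (h : MvPolynomial.map g f = f') (hg : Function.Surjective g) : Function.Surjective (qMap g f f' h) := fun z => by
  obtain ⟨q, rfl⟩ := Ideal.Quotient.mk_surjective z
  obtain ⟨p, rfl⟩ := MvPolynomial.map_surjective g hg q
  exact ⟨Ideal.Quotient.mk _ p, rfl⟩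

theorem ker_qMap (h : MvPolynomial.map g f = f') (hg : Function.Surjective g) :
    RingHom.ker (qMap g f f' h) = (RingHom.ker g).map (algebraMap R (MvPolynomial (Fin n) R ⧸ Ideal.span {f})) := by
  refine le_antisymm (fun z hz => ?_) (Ideal.map_le_iff_le_comap.2 fun r hr => ?_)
  · obtain ⟨P, rfl⟩ := Ideal.Quotient.mk_surjective z
    rw [RingHom.mem_ker, qMap_mk, Ideal.Quotient.eq_zero_iff_mem, Ideal.mem_span_singleton] at hz
    obtain ⟨q, hq⟩ := hz
    obtain ⟨q, rfl⟩ := MvPolynomial.map_surjective g hg q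
    have h1 : P - f * q ∈ RingHom.ker (MvPolynomial.map g) := by
      rw [RingHom.mem_ker, map_sub, map_mul, h, hq, sub_self]
    rw [MvPolynomial.ker_map] at h1
    have h2 := Ideal.mem_map_of_mem (Ideal.Quotient.mk (Ideal.span {f})) h1
    rw [Ideal.map_map, map_sub, map_mul, Ideal.Quotient.eq_zero_iff_mem.2 (Ideal.mem_span_singleton_self f),
      zero_mul, sub_zero] at h2
    exact h2
  · rw [Ideal.mem_comap, RingHom.mem_ker, qMap_algebraMap, RingHom.mem_ker.1 hr, map_zero]

end QMap

variable {k : Type u} [Field k]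

variable (k) in
/-- The coordinate ring of the node. -/
abbrev NodeRing : Type u :=
  MvPolynomial (Fin 2) k ⧸ Ideal.span {(MvPolynomial.X 0 * MvPolynomial.X 1 : MvPolynomial (Fin 2) k)}

/-- `xy - u`. -/
def nodeRel {C : Type u} [CommRing C] (u : C) : MvPolynomial (Fin 2) C :=
  MvPolynomial.X 0 * MvPolynomial.X 1 - MvPolynomial.C u

theorem map_nodeRel {C C' : Type u} [CommRing C] [CommRing C'] (g : C →+* C') (u : C) :
    MvPolynomial.map g (nodeRel u) = nodeRel (g u) := by
  simp [nodeRel]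

variable {C : ArtFun.Art k k}

theorem map_res_nodeRel (u : C) (hu : C.res u = 0) :
    MvPolynomial.map C.res.toRingHom (nodeRel u) = MvPolynomial.X 0 * MvPolynomial.X 1 := by
  rw [map_nodeRel]
  show nodeRel (C.res u) = _
  simp [nodeRel, hu]

theorem node_flat (u : C) (hu : C.res u = 0) :
    Module.Flat C (MvPolynomial (Fin 2) C ⧸ Ideal.span {nodeRel u}) := by
  let f : MvPolynomial (Fin 2) C →ₗ[C] MvPolynomial (Fin 2) C :=
    LinearMap.mulLeft C (nodeRel u)
  let g : MvPolynomial (Fin 2) C →ₗ[C] MvPolynomial (Fin 2) C ⧸ Ideal.span {nodeRel u} :=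
    (Ideal.Quotient.mkₐ C _).toLinearMap
  refine GrothLib.ArtinFlat.flat_of_residueField f g Ideal.Quotient.mk_surjective (fun y => ?_) ?_
  · show Ideal.Quotient.mk _ y = 0 ↔ y ∈ Set.range f
    rw [Ideal.Quotient.eq_zero_iff_mem, Ideal.mem_span_singleton]
    exact ⟨fun ⟨c, hc⟩ => ⟨c, hc.symm⟩, fun ⟨c, hc⟩ => ⟨c, hc.symm⟩⟩
  · let K := IsLocalRing.ResidueField C
    let e := MvPolynomial.algebraTensorAlgEquiv C K (σ := Fin 2)
    have he : ∀ z, e (f.lTensor K z) = MvPolynomial.map (algebraMap C K) (nodeRel u) * e z := fun z => by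
      induction z using TensorProduct.induction_on with
      | zero => simp
      | tmul b p =>
        simp [e, f, MvPolynomial.algebraTensorAlgEquiv_tmul, Algebra.smul_def]
        ring
      | add a b ha hb => simp only [map_add, ha, hb, mul_add]
    have hne : MvPolynomial.map (algebraMap C K) (nodeRel u) ≠ 0 := by
      rw [map_nodeRel]
      have h0 : algebraMap C K u = 0 :=
        (IsLocalRing.residue_eq_zero_iff u).2 ((Art.mem_maximalIdeal_iff C u).2 hu)
      simp [nodeRel, h0]
    intro a b hab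
    refine e.injective (mul_left_cancel₀ hne ?_)
    rw [← he, ← he, hab]

/-- The deformation `xy = u`. -/
@[reducible] def nodeData (u : C) (hu : C.res u = 0) : AffData C (NodeRing k) where
  E := MvPolynomial (Fin 2) C ⧸ Ideal.span {nodeRel u}
  flat := node_flat u hu
  ι := qMap C.res.toRingHom (nodeRel u) _ (map_res_nodeRel u hu)
  surj := qMap_surjective _ _ _ _ C.res_surjective
  ker := ker_qMap _ _ _ _ C.res_surjective
  comm := fun a => qMap_algebraMap _ _ _ _ a

theorem nonempty_baseChange_nodeData {C' : ArtFun.Art k k} (g : C ⟶ C') (hg : Function.Surjective g)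
    (u : C) (hu : C.res u = 0) (hu' : C'.res (g u) = 0) :
    Nonempty (((nodeData u hu).toDefSch.baseChange g).Iso (nodeData (g u) hu').toDefSch) := by
  let gR : C →+* C' := g.toAlgHom.toRingHom
  have hmap : MvPolynomial.map gR (nodeRel u) = nodeRel (g u) := map_nodeRel _ _
  let π := qMap gR (nodeRel u) (nodeRel (g u)) hmap
  have w : CommRingCat.ofHom (algebraMap C (nodeData u hu).E) ≫ CommRingCat.ofHom π =
      CommRingCat.ofHom gR ≫ CommRingCat.ofHom (algebraMap C' (nodeData (g u) hu').E) := by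
    ext a
    exact qMap_algebraMap _ _ _ hmap a
  have hsq : IsPullback (Spec.map (CommRingCat.ofHom π))
      (Spec.map (CommRingCat.ofHom (algebraMap C' (nodeData (g u) hu').E)))
      (Spec.map (CommRingCat.ofHom (algebraMap C (nodeData u hu).E))) (specMap g) :=
    (GrothLib.FSchSys.isPullback_spec_iff (CommRingCat.ofHom (algebraMap C (nodeData u hu).E))
      (CommRingCat.ofHom (algebraMap C' (nodeData (g u) hu').E)) (CommRingCat.ofHom gR)
      (CommRingCat.ofHom π) hg (qMap_surjective _ _ _ hmap hg) w).2 (ker_qMap gR (nodeRel u) _ hmap hg).symm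
  refine ⟨{ iso := hsq.isoPullback.symm, hom_f := hsq.isoPullback_inv_snd, i_hom := ?_ }⟩
  show ((nodeData u hu).toDefSch.baseChange g).i ≫ hsq.isoPullback.inv = _
  apply hsq.hom_ext
  · erw [Category.assoc, hsq.isoPullback_inv_fst, DefSch.baseChange_i_fst]
    rw [← Spec.map_comp, ← CommRingCat.ofHom_comp]
    show Spec.map (CommRingCat.ofHom (nodeData u hu).ι) = _
    congr 2
    apply Ideal.Quotient.ringHom_ext
    refine MvPolynomial.ringHom_ext (fun a => ?_) fun i => ?_
    · show Ideal.Quotient.mk _ (MvPolynomial.map C.res.toRingHom (MvPolynomial.C a)) =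
        Ideal.Quotient.mk _ (MvPolynomial.map C'.res.toRingHom (MvPolynomial.map gR (MvPolynomial.C a)))
      simp only [MvPolynomial.map_C]
      exact congrArg (fun c => Ideal.Quotient.mk _ (MvPolynomial.C c)) (Art.res_app g a).symm
    · show Ideal.Quotient.mk _ (MvPolynomial.map C.res.toRingHom (MvPolynomial.X i)) =
        Ideal.Quotient.mk _ (MvPolynomial.map C'.res.toRingHom (MvPolynomial.map gR (MvPolynomial.X i)))
      simp only [MvPolynomial.map_X]
  · erw [Category.assoc, hsq.isoPullback_inv_snd, DefSch.baseChange_i_f]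
    exact (nodeData (g u) hu').toDefSch.i_f.symm

theorem nonempty_iso_of_unit (u w : C) (hu : C.res u = 0) (hw : C.res w = 0) (v : Cˣ)
    (hv : C.res v = 1) (h : w = v * u) :
    Nonempty ((nodeData u hu).toDefSch.Iso (nodeData w hw).toDefSch) := by
  subst h
  let sc : C → MvPolynomial (Fin 2) C →ₐ[C] MvPolynomial (Fin 2) C := fun c => MvPolynomial.aeval ![MvPolynomial.C c * MvPolynomial.X 0, MvPolynomial.X 1]
  have hf : sc ↑v (nodeRel ((v : C) * u)) = MvPolynomial.C (v : C) * nodeRel u := by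
    simp [sc, nodeRel, map_mul]; ring
  have hg : sc ↑v⁻¹ (nodeRel u) = MvPolynomial.C (↑v⁻¹ : C) * nodeRel ((v : C) * u) := by
    simp only [sc, nodeRel, map_sub, map_mul, MvPolynomial.aeval_X, MvPolynomial.aeval_C, MvPolynomial.algebraMap_eq]
    simp only [Matrix.cons_val_zero, Matrix.cons_val_one, mul_sub, ← map_mul]
    rw [show (↑v⁻¹ : C) * ((v : C) * u) = u by rw [← mul_assoc, Units.inv_mul, one_mul]]
    simp only [mul_assoc]
  let F : (nodeData ((v : C) * u) hw).E →ₐ[C] (nodeData u hu).E :=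
    Ideal.Quotient.liftₐ _ ((Ideal.Quotient.mkₐ C (Ideal.span {nodeRel u})).comp (sc ↑v)) fun p hp => by
      obtain ⟨q, rfl⟩ := Ideal.mem_span_singleton.1 hp
      show Ideal.Quotient.mk _ (sc ↑v (_ * q)) = 0
      rw [map_mul, hf, Ideal.Quotient.eq_zero_iff_mem]
      exact Ideal.mul_mem_right _ _ (Ideal.mul_mem_left _ _ (Ideal.mem_span_singleton_self _))
  let G : (nodeData u hu).E →ₐ[C] (nodeData ((v : C) * u) hw).E :=
    Ideal.Quotient.liftₐ _ ((Ideal.Quotient.mkₐ C (Ideal.span {nodeRel ((v : C) * u)})).comp (sc ↑v⁻¹)) fun p hp => by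
      obtain ⟨q, rfl⟩ := Ideal.mem_span_singleton.1 hp
      show Ideal.Quotient.mk _ (sc ↑v⁻¹ (_ * q)) = 0
      rw [map_mul, hg, Ideal.Quotient.eq_zero_iff_mem]
      exact Ideal.mul_mem_right _ _ (Ideal.mul_mem_left _ _ (Ideal.mem_span_singleton_self _))
  have hscsc : ∀ a b : C, a * b = 1 → (sc a).comp (sc b) = AlgHom.id C (MvPolynomial (Fin 2) C) := fun a b hab => by
    refine MvPolynomial.algHom_ext fun i => ?_
    fin_cases i
    · simp [sc]
      rw [← mul_assoc, ← map_mul, mul_comm b a, hab, map_one, one_mul]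
    · simp [sc]
  have hFG : ∀ z, F (G z) = z := fun z => by
    obtain ⟨p, rfl⟩ := Ideal.Quotient.mk_surjective z
    show Ideal.Quotient.mk _ (sc ↑v (sc ↑v⁻¹ p)) = _
    exact congrArg (Ideal.Quotient.mk _) (AlgHom.congr_fun (hscsc _ _ v.mul_inv) p)
  have hGF : ∀ z, G (F z) = z := fun z => by
    obtain ⟨p, rfl⟩ := Ideal.Quotient.mk_surjective z
    show Ideal.Quotient.mk _ (sc ↑v⁻¹ (sc ↑v p)) = _
    exact congrArg (Ideal.Quotient.mk _) (AlgHom.congr_fun (hscsc _ _ v.inv_mul) p)
  let e : CommRingCat.of (nodeData ((v : C) * u) hw).E ≅ CommRingCat.of (nodeData u hu).E :=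
    { hom := CommRingCat.ofHom F.toRingHom
      inv := CommRingCat.ofHom G.toRingHom
      hom_inv_id := CommRingCat.hom_ext (RingHom.ext hGF)
      inv_hom_id := CommRingCat.hom_ext (RingHom.ext hFG) }
  refine ⟨{ iso := Scheme.Spec.mapIso e.op, hom_f := ?_, i_hom := ?_ }⟩
  · show Spec.map (CommRingCat.ofHom F.toRingHom) ≫ Spec.map _ = Spec.map _
    rw [← Spec.map_comp, ← CommRingCat.ofHom_comp]
    congr 2
    exact RingHom.ext fun a => F.commutes a
  · show Spec.map (CommRingCat.ofHom (nodeData u hu).ι) ≫ Spec.map (CommRingCat.ofHom F.toRingHom) =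
      Spec.map (CommRingCat.ofHom (nodeData ((v : C) * u) hw).ι)
    rw [← Spec.map_comp, ← CommRingCat.ofHom_comp]
    congr 2
    apply Ideal.Quotient.ringHom_ext
    refine MvPolynomial.ringHom_ext (fun a => ?_) fun i => ?_
    · show Ideal.Quotient.mk _ (MvPolynomial.map C.res.toRingHom (sc ↑v (MvPolynomial.C a))) =
        Ideal.Quotient.mk _ (MvPolynomial.map C.res.toRingHom (MvPolynomial.C a))
      simp [sc]
    · show Ideal.Quotient.mk _ (MvPolynomial.map C.res.toRingHom (sc ↑v (MvPolynomial.X i))) =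
        Ideal.Quotient.mk _ (MvPolynomial.map C.res.toRingHom (MvPolynomial.X i))
      congr 1
      fin_cases i
      · simp [sc, hv]
      · simp [sc]

/-- Isomorphic deformations `xy = u`, `xy = w` satisfy `w ≡ c u` modulo `m²` with `c ≡ 1`. -/
theorem exists_of_iso (u w : C) (hu : C.res u = 0) (hw : C.res w = 0)
    (e : (nodeData u hu).toDefSch.Iso (nodeData w hw).toDefSch) :
    ∃ c : C, C.res c = 1 ∧ w - c * u ∈ IsLocalRing.maximalIdeal C ^ 2 := by
  let φ : CommRingCat.of (nodeData w hw).E ⟶ CommRingCat.of (nodeData u hu).E := Spec.preimage e.iso.hom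
  have hφ : Spec.map φ = e.iso.hom := Spec.map_preimage _
  have h1 : CommRingCat.ofHom (algebraMap C (nodeData w hw).E) ≫ φ =
      CommRingCat.ofHom (algebraMap C (nodeData u hu).E) :=
    Spec.map_injective (by rw [Spec.map_comp, hφ]; exact e.hom_f)
  have h2 : φ ≫ CommRingCat.ofHom (nodeData u hu).ι = CommRingCat.ofHom (nodeData w hw).ι :=
    Spec.map_injective (by rw [Spec.map_comp, hφ]; exact e.i_hom)
  let Φ : MvPolynomial (Fin 2) C →+* (nodeData u hu).E := φ.hom.comp (Ideal.Quotient.mk _)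
  choose Z hZ using fun i => Ideal.Quotient.mk_surjective (Φ (MvPolynomial.X i))
  have hΦC : ∀ a, Φ (MvPolynomial.C a) = Ideal.Quotient.mk _ (MvPolynomial.C a) := fun a =>
    congrArg (fun q : CommRingCat.of C ⟶ CommRingCat.of (nodeData u hu).E => q.hom a) h1
  have hrel : Z 0 * Z 1 - MvPolynomial.C w ∈ Ideal.span {nodeRel u} := by
    rw [← Ideal.Quotient.eq_zero_iff_mem, map_sub, map_mul, hZ, hZ, ← hΦC, ← map_mul Φ, ← map_sub Φ]
    show φ.hom (Ideal.Quotient.mk _ (nodeRel w)) = 0
    rw [Ideal.Quotient.eq_zero_iff_mem.2 (Ideal.mem_span_singleton_self _), map_zero]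
  obtain ⟨h, hh⟩ := Ideal.mem_span_singleton.1 hrel
  let ρ := MvPolynomial.map (σ := Fin 2) C.res.toRingHom
  have hρZ : ∀ i, ∃ α, ρ (Z i) = MvPolynomial.X i + MvPolynomial.X 0 * MvPolynomial.X 1 * α := fun i => by
    have h3 := congrArg (fun q : CommRingCat.of (nodeData w hw).E ⟶ CommRingCat.of (NodeRing k) =>
      q.hom (Ideal.Quotient.mk _ (MvPolynomial.X i))) h2
    have h4 : (nodeData u hu).ι (Φ (MvPolynomial.X i)) =
        (Ideal.Quotient.mk _ (MvPolynomial.map C.res.toRingHom (MvPolynomial.X i)) : NodeRing k) := h3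
    rw [← hZ] at h4
    have h5 : (Ideal.Quotient.mk _ (ρ (Z i)) : NodeRing k) = Ideal.Quotient.mk _ (MvPolynomial.X i) := by
      rw [← MvPolynomial.map_X C.res.toRingHom i]; exact h4
    rw [Ideal.Quotient.eq, Ideal.mem_span_singleton] at h5
    obtain ⟨α, hα⟩ := h5
    exact ⟨α, by linear_combination hα⟩
  obtain ⟨α, hα⟩ := hρZ 0
  obtain ⟨β, hβ⟩ := hρZ 1
  have hres := congrArg ρ hh
  rw [map_sub, map_mul, map_mul, map_res_nodeRel u hu, hα, hβ,
    show ρ (MvPolynomial.C w) = MvPolynomial.C (C.res w) from MvPolynomial.map_C _ w, hw, map_zero, sub_zero] at hres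
  have hcancel : (1 + MvPolynomial.X 1 * α) * (1 + MvPolynomial.X 0 * β) = ρ h :=
    mul_left_cancel₀ (mul_ne_zero (MvPolynomial.X_ne_zero (0 : Fin 2)) (MvPolynomial.X_ne_zero 1))
      (by linear_combination hres)
  refine ⟨MvPolynomial.constantCoeff h, ?_, ?_⟩
  · have := congrArg MvPolynomial.constantCoeff hcancel
    simp [ρ, MvPolynomial.constantCoeff_map] at this
    exact this.symm
  · have h6 := congrArg MvPolynomial.constantCoeff hh
    simp [nodeRel] at h6
    have h7 : ∀ i, MvPolynomial.constantCoeff (Z i) ∈ IsLocalRing.maximalIdeal C := fun i => by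
      obtain ⟨γ, hγ⟩ := hρZ i
      rw [Art.mem_maximalIdeal_iff]
      have h8 := congrArg MvPolynomial.constantCoeff hγ
      simpa [ρ, MvPolynomial.constantCoeff_map] using h8
    rw [show w - MvPolynomial.constantCoeff h * u =
      MvPolynomial.constantCoeff (Z 0) * MvPolynomial.constantCoeff (Z 1) by linear_combination -h6, sq]
    exact Ideal.mul_mem_mul (h7 0) (h7 1)

end GrothLib.AffDef
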