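import Groth.Agent.Lib.AffDef26.Node

/-!
# The node's deformation functor is not pro-representable
-/

universe u

open CategoryTheory CategoryTheory.Limits AlgebraicGeometry ArtFun ArtFun.Art

noncomputable section

namespace GrothLib.AffDef

variable {k : Type u} [Field k]

section TwoJets

open GrothLib.ArtSmooth26

variable (k)

/-- Pairs of 3-jets agreeing as 2-jets. -/
def twoJetAlg : Subalgebra k (Jet k 3 × Jet k 3) :=
  AlgHom.equalizer ((jetMap k (Nat.le_succ 2)).comp (AlgHom.fst k _ _))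
    ((jetMap k (Nat.le_succ 2)).comp (AlgHom.snd k _ _))

variable {k}

theorem exists_eq_sq_mul (a : Jet k 3) (ha : jetMap k (Nat.le_succ 2) a = 0) :
    ∃ b, a = tJet k 3 ^ 2 * b := by
  obtain ⟨p, rfl⟩ := Ideal.Quotient.mk_surjective a
  have h : p ∈ Ideal.span {(Polynomial.X : Polynomial k) ^ 2} := Ideal.Quotient.eq_zero_iff_mem.1 ha
  obtain ⟨q, rfl⟩ := Ideal.mem_span_singleton.1 h
  exact ⟨Ideal.Quotient.mk _ q, by rw [map_mul, map_pow]⟩

theorem jetMap_mk {l l' : ℕ} (h : l ≤ l') (p : Polynomial k) :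
    jetMap k h (Ideal.Quotient.mk _ p) = Ideal.Quotient.mk _ p :=
  rfl

theorem jetEps_jetMap {l l' : ℕ} (hl : 1 ≤ l) (h : l ≤ l') (a : Jet k l') :
    jetEps k l hl (jetMap k h a) = jetEps k l' (hl.trans h) a := by
  obtain ⟨p, rfl⟩ := Ideal.Quotient.mk_surjective a
  rw [jetMap_mk, jetEps_mk, jetEps_mk]

theorem eps_snd_eq (z : twoJetAlg k) :
    jetEps k 3 (by omega) z.1.2 = jetEps k 3 (by omega) z.1.1 := by
  rw [← jetEps_jetMap (l := 2) (by omega) (Nat.le_succ 2), ← jetEps_jetMap (l := 2) (by omega) (Nat.le_succ 2)]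
  exact congrArg _ ((AlgHom.mem_equalizer _ _ _).1 z.2).symm



theorem isUnit_twoJet (z : twoJetAlg k) (hz : jetEps k 3 (by omega) z.1.1 ≠ 0) : IsUnit z := by
  obtain ⟨U, hU⟩ := isUnit_jet 3 (by omega) z.1.1 hz
  obtain ⟨V, hV⟩ := isUnit_jet 3 (by omega) z.1.2 (by rwa [eps_snd_eq])
  have h : jetMap k (Nat.le_succ 2) z.1.1 = jetMap k (Nat.le_succ 2) z.1.2 :=
    (AlgHom.mem_equalizer _ _ _).1 z.2
  have hinv : ((↑U⁻¹ : Jet k 3), (↑V⁻¹ : Jet k 3)) ∈ twoJetAlg k := by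
    refine (AlgHom.mem_equalizer _ _ _).2 ?_
    show jetMap k (Nat.le_succ 2) (↑U⁻¹ : Jet k 3) = jetMap k (Nat.le_succ 2) (↑V⁻¹ : Jet k 3)
    rw [← hU, ← hV] at h
    have h1 : Units.map (jetMap k (Nat.le_succ 2)).toRingHom.toMonoidHom U =
        Units.map (jetMap k (Nat.le_succ 2)).toRingHom.toMonoidHom V := Units.ext h
    have h2 := congrArg (fun W : (Jet k 2)ˣ => ((W⁻¹ : (Jet k 2)ˣ) : Jet k 2)) h1
    simpa [← map_inv] using h2
  exact IsUnit.of_mul_eq_one ⟨_, hinv⟩ (Subtype.ext (Prod.ext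
    (show z.1.1 * ↑U⁻¹ = 1 by rw [← hU, Units.mul_inv]) (show z.1.2 * ↑V⁻¹ = 1 by rw [← hV, Units.mul_inv])))

theorem isLocalRing_twoJetAlg : IsLocalRing (twoJetAlg k) :=
  haveI : Nontrivial (twoJetAlg k) :=
    ((jetEps k 3 (by omega)).comp ((AlgHom.fst k (Jet k 3) (Jet k 3)).comp (twoJetAlg k).val)).toRingHom.domain_nontrivial
  IsLocalRing.of_isUnit_or_isUnit_one_sub_self fun (z : twoJetAlg k) => by
    by_cases hz : jetEps k 3 (by omega) z.1.1 = 0
    · refine Or.inr (isUnit_twoJet _ ?_)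
      show jetEps k 3 _ (1 - z.1.1) ≠ 0
      rw [map_sub, map_one, hz, sub_zero]
      exact one_ne_zero
    · exact Or.inl (isUnit_twoJet _ hz)

instance : IsLocalRing (twoJetAlg k) := isLocalRing_twoJetAlg

theorem isArtinianRing_twoJetAlg : IsArtinianRing (twoJetAlg k) :=
  haveI : Module.Finite k (Jet k 3) := moduleFinite_jet 3
  haveI : Module.Finite k (twoJetAlg k) :=
    Module.Finite.of_injective (twoJetAlg k).val.toLinearMap Subtype.val_injective
  IsArtinianRing.of_finite k (twoJetAlg k)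

variable (k)

instance : IsArtinianRing (twoJetAlg k) := isArtinianRing_twoJetAlg (k := k)

/-- The object of pairs of 3-jets agreeing as 2-jets. -/
abbrev twoJet : ArtFun.Art k k :=
  { carrier := twoJetAlg k
    isLocalRing := isLocalRing_twoJetAlg
    isArtinianRing := isArtinianRing_twoJetAlg
    res := (jetEps k 3 (by omega)).comp ((AlgHom.fst k _ _).comp (twoJetAlg k).val)
    res_surjective := fun c => ⟨algebraMap k _ c, AlgHom.commutes _ c⟩ }

/-- 3-jets as an object. -/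
abbrev jetThree : ArtFun.Art k k :=
  haveI : Module.Finite k (Jet k 3) := moduleFinite_jet 3
  { carrier := Jet k 3
    isLocalRing := isLocalRing_jet 3 (by omega)
    isArtinianRing := IsArtinianRing.of_finite k (Jet k 3)
    res := jetEps k 3 (by omega)
    res_surjective := fun c => ⟨algebraMap k _ c, AlgHom.commutes _ c⟩ }

/-- First projection. -/
def twoJetFst : twoJet k ⟶ jetThree k :=
  ⟨(AlgHom.fst k (Jet k 3) (Jet k 3)).comp (twoJetAlg k).val, rfl⟩

/-- Second projection. -/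
def twoJetSnd : twoJet k ⟶ jetThree k :=
  ⟨(AlgHom.snd k (Jet k 3) (Jet k 3)).comp (twoJetAlg k).val, AlgHom.ext fun z => eps_snd_eq z⟩

theorem twoJetFst_surjective : Function.Surjective (twoJetFst k) := fun a =>
  ⟨⟨((a : Jet k 3), (a : Jet k 3)), (AlgHom.mem_equalizer _ _ _).2 rfl⟩, rfl⟩

theorem twoJetSnd_surjective : Function.Surjective (twoJetSnd k) := fun a =>
  ⟨⟨((a : Jet k 3), (a : Jet k 3)), (AlgHom.mem_equalizer _ _ _).2 rfl⟩, rfl⟩

/-- `(t, t)`. -/
def u₀ : twoJet k := (⟨(tJet k 3, tJet k 3), (AlgHom.mem_equalizer _ _ _).2 rfl⟩ : twoJetAlg k)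

/-- `(t, t + t²)`. -/
def u₁ : twoJet k :=
  (⟨(tJet k 3, tJet k 3 + tJet k 3 ^ 2), (AlgHom.mem_equalizer _ _ _).2 (by
    show jetMap k (Nat.le_succ 2) (tJet k 3) = jetMap k (Nat.le_succ 2) (tJet k 3 + tJet k 3 ^ 2)
    rw [map_add, map_pow, show jetMap k (Nat.le_succ 2) (tJet k 3) = tJet k 2 from jetMap_mk _ _,
      tJet_pow_self, add_zero])⟩ : twoJetAlg k)

theorem res_tJet : jetEps k 3 (by omega) (tJet k 3) = 0 := by
  rw [jetEps_mk, Polynomial.aeval_X]

theorem not_isProrepresentable_node :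
    ¬ ArtFun.IsProrepresentable (ArtFun.defFunctor (Λ := k) (Spec (CommRingCat.of (NodeRing k)))
      (Spec.map (CommRingCat.ofHom (algebraMap k (NodeRing k))))) := by
  rintro ⟨⟨R, ξ, huniv⟩⟩
  have h₀ : (twoJet k).res (u₀ k) = 0 := res_tJet k
  have h₁ : (twoJet k).res (u₁ k) = 0 := res_tJet k
  let c₀ := (nodeData (u₀ k) h₀).toDefSch
  let c₁ := (nodeData (u₁ k) h₁).toDefSch
  have hkey : ∀ (p : twoJet k ⟶ jetThree k), Function.Surjective p → ∀ v : (jetThree k)ˣ,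
      (jetThree k).res v = 1 → p (u₁ k) = v * p (u₀ k) →
      (c₀.baseChange p).cl = (c₁.baseChange p).cl := fun p hp v hv hpv => by
    have hr₀ : (jetThree k).res (p (u₀ k)) = 0 := (Art.res_app p _).trans h₀
    have hr₁ : (jetThree k).res (p (u₁ k)) = 0 := (Art.res_app p _).trans h₁
    obtain ⟨e₀⟩ := nonempty_baseChange_nodeData p hp (u₀ k) h₀ hr₀
    obtain ⟨e₁⟩ := nonempty_baseChange_nodeData p hp (u₁ k) h₁ hr₁
    obtain ⟨e⟩ := nonempty_iso_of_unit (p (u₀ k)) (p (u₁ k)) hr₀ hr₁ v hv hpv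
    exact Quotient.sound ⟨(e₀.trans e).trans e₁.symm⟩
  have e1 : (c₀.baseChange (twoJetFst k)).cl = (c₁.baseChange (twoJetFst k)).cl :=
    hkey _ (twoJetFst_surjective k) 1 (map_one _) (one_mul _).symm
  have e2 : (c₀.baseChange (twoJetSnd k)).cl = (c₁.baseChange (twoJetSnd k)).cl := by
    have hn : IsNilpotent (tJet k 3) := ⟨3, tJet_pow_self 3⟩
    obtain ⟨V, hV⟩ := hn.isUnit_one_add
    refine hkey _ (twoJetSnd_surjective k) V ?_ ?_
    · show jetEps k 3 (by omega) (V : Jet k 3) = 1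
      rw [hV, map_add, map_one, res_tJet, add_zero]
    · show tJet k 3 + tJet k 3 ^ 2 = (V : Jet k 3) * tJet k 3
      rw [hV]; ring
  obtain ⟨φ₀, hφ₀⟩ := (huniv (twoJet k)).2 c₀.cl
  obtain ⟨φ₁, hφ₁⟩ := (huniv (twoJet k)).2 c₁.cl
  have hmap : ∀ p : twoJet k ⟶ jetThree k, (c₀.baseChange p).cl = (c₁.baseChange p).cl →
      HomSet.map p φ₀ = HomSet.map p φ₁ := fun p hp => by
    refine (huniv (jetThree k)).1 ?_
    rw [ξ.natural, ξ.natural, hφ₀, hφ₁]
    exact hp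
  have hφ : φ₀ = φ₁ := by
    refine Subtype.ext (AlgHom.ext fun r => Subtype.ext (Prod.ext ?_ ?_))
    · exact AlgHom.congr_fun (congrArg Subtype.val (hmap _ e1)) r
    · exact AlgHom.congr_fun (congrArg Subtype.val (hmap _ e2)) r
  have hcl : c₀.cl = c₁.cl := by rw [← hφ₀, ← hφ₁, hφ]
  obtain ⟨e⟩ : Nonempty (c₀.Iso c₁) := Quotient.exact hcl
  obtain ⟨c, hc, hm⟩ := exists_of_iso (u₀ k) (u₁ k) h₀ h₁ e
  have hdiag : ∀ z ∈ IsLocalRing.maximalIdeal (twoJet k) ^ 2, (z : twoJetAlg k).1.1 = (z : twoJetAlg k).1.2 := by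
    intro z hz
    rw [sq] at hz
    refine Submodule.mul_induction_on hz (fun a ha b hb => ?_) fun a b ha hb => ?_
    · rw [Art.mem_maximalIdeal_iff] at ha hb
      obtain ⟨a', ha'⟩ := exists_eq_sq_mul ((a : twoJetAlg k).1.1 - (a : twoJetAlg k).1.2)
        (by rw [map_sub, sub_eq_zero]; exact (AlgHom.mem_equalizer _ _ _).1 (a : twoJetAlg k).2)
      obtain ⟨b', hb'⟩ := exists_eq_sq_mul ((b : twoJetAlg k).1.1 - (b : twoJetAlg k).1.2)
        (by rw [map_sub, sub_eq_zero]; exact (AlgHom.mem_equalizer _ _ _).1 (b : twoJetAlg k).2)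
      obtain ⟨a'', ha''⟩ := exists_eq_add_tJet_mul 3 (by omega) (a : twoJetAlg k).1.2
      obtain ⟨b'', hb''⟩ := exists_eq_add_tJet_mul 3 (by omega) (b : twoJetAlg k).1.1
      rw [show jetEps k 3 _ (b : twoJetAlg k).1.1 = 0 from hb, map_zero, zero_add] at hb''
      rw [show jetEps k 3 _ (a : twoJetAlg k).1.2 = 0 from (eps_snd_eq _).trans ha, map_zero, zero_add] at ha''
      have ht := tJet_pow_self (k := k) 3
      show (a : twoJetAlg k).1.1 * (b : twoJetAlg k).1.1 = (a : twoJetAlg k).1.2 * (b : twoJetAlg k).1.2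
      linear_combination (b : twoJetAlg k).1.1 * ha' + (a : twoJetAlg k).1.2 * hb' +
        tJet k 3 ^ 2 * a' * hb'' + tJet k 3 ^ 2 * b' * ha'' + (a' * b'' + b' * a'') * ht
    · show (a : twoJetAlg k).1.1 + (b : twoJetAlg k).1.1 = (a : twoJetAlg k).1.2 + (b : twoJetAlg k).1.2
      rw [ha, hb]
  have hz := hdiag _ hm
  obtain ⟨c', hc'⟩ := exists_eq_sq_mul ((c : twoJetAlg k).1.1 - (c : twoJetAlg k).1.2)
    (by rw [map_sub, sub_eq_zero]; exact (AlgHom.mem_equalizer _ _ _).1 (c : twoJetAlg k).2)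
  change tJet k 3 - (c : twoJetAlg k).1.1 * tJet k 3 =
    (tJet k 3 + tJet k 3 ^ 2) - (c : twoJetAlg k).1.2 * tJet k 3 at hz
  refine tJet_pow_ne_zero (k := k) (j := 2) (l := 3) (by omega) ?_
  have ht := tJet_pow_self (k := k) 3
  linear_combination -hz - tJet k 3 * hc' - c' * ht

end TwoJets

end GrothLib.AffDef
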