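import Groth.Agent.Lib.AffDef26.Scheme
import Groth.Agent.Lib.AffDef26.Classify
import Groth.Agent.Lib.ArtFun.SmallExt

/-!
# Affine schemes with vanishing `T¹` are rigid
-/

universe u

open CategoryTheory CategoryTheory.Limits AlgebraicGeometry ArtFun ArtFun.Art
open scoped TensorProduct

noncomputable section

namespace GrothLib.AffDef

variable {k : Type u} [Field k] {X : Scheme.{u}} {x : X ⟶ specPt k}

theorem nonempty_iso_self (hx : Flat x) (ζ : DefSch X x (Art.base k k)) :
    Nonempty (ζ.Iso (DefSch.self X x hx)) := by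
  haveI : IsIso ζ.i := ζ.isPullback.isIso_fst_of_isIso
  refine ⟨⟨(asIso ζ.i).symm, ?_, IsIso.hom_inv_id ζ.i⟩⟩
  show inv ζ.i ≫ x = ζ.f
  rw [IsIso.inv_comp_eq]
  exact (Art.comp_specRes_base x).symm.trans ζ.i_f.symm

theorem t1_congr {A B : Type u} [CommRing A] [CommRing B] [Algebra A B] {ι σ : Type u}
    (P : Algebra.Presentation A B ι σ) {M N : Type u} [AddCommGroup M] [Module B M] [AddCommGroup N] [Module B N]
    (e : M ≃ₗ[B] N) : Nonempty (_root_.CotT.T1 P M ≃ _root_.CotT.T1 P N) := by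
  refine ⟨⟨_root_.CotT.T1map P e.toLinearMap, _root_.CotT.T1map P e.symm.toLinearMap, fun z => ?_, fun z => ?_⟩⟩
  · induction z using Submodule.Quotient.induction_on with
    | H φ => exact congrArg (Submodule.Quotient.mk) (Subtype.ext (LinearMap.ext fun y => e.symm_apply_apply _))
  · induction z using Submodule.Quotient.induction_on with
    | H φ => exact congrArg (Submodule.Quotient.mk) (Subtype.ext (LinearMap.ext fun y => e.apply_symm_apply _))

theorem nonempty_kerEquiv_of_isSmallExt {A B : ArtFun.Art k k} {p : B ⟶ A} (hp : IsSmallExt p) :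
    Nonempty (k ≃ₗ[k] RingHom.ker p.toAlgHom) := by
  obtain ⟨t, hker, ht0, htm, ht⟩ := GrothLib.ArtFun.smallExt_exists_gen hp
  let f : k →ₗ[k] RingHom.ker p.toAlgHom :=
    LinearMap.toSpanSingleton k (RingHom.ker p.toAlgHom) (⟨t, RingHom.mem_ker.2 ht⟩ : RingHom.ker p.toAlgHom)
  have hf : ∀ c : k, (f c : B) = algebraMap k B c * t := fun c => by
    show ((c • (⟨t, RingHom.mem_ker.2 ht⟩ : RingHom.ker p.toAlgHom) : RingHom.ker p.toAlgHom) : B) = _
    rw [Submodule.coe_smul_of_tower, Algebra.smul_def]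
  refine ⟨LinearEquiv.ofBijective f ⟨?_, fun j => ?_⟩⟩
  · rw [injective_iff_map_eq_zero]
    intro c hc
    have h := (GrothLib.ArtFun.mul_eq_zero_iff ht0 htm).1 ((hf c).symm.trans (congrArg Subtype.val hc))
    simpa using h
  · obtain ⟨a, ha⟩ := Ideal.mem_span_singleton'.1 (show (j : B) ∈ Ideal.span {t} from hker ▸ j.2)
    refine ⟨B.res a, Subtype.ext ?_⟩
    rw [hf, ← ha]
    exact GrothLib.ArtFun.mul_eq_mul_of_res_eq hp.2.2.2 (by simp) (RingHom.mem_ker.2 ht)

variable {B₀ : Type u} [CommRing B₀] [Algebra k B₀]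

local notation "X₀" => Spec (CommRingCat.of B₀)
local notation "x₀" => Spec.map (CommRingCat.ofHom (algebraMap k B₀))

/-- Deformations of a rigid affine scheme are trivial. -/
theorem nonempty_iso_trivial (hT : Subsingleton (_root_.CotT.T1 (_root_.CotT.canon k B₀) B₀)) (hx : Flat x₀)
    (A : ArtFun.Art k k) (ξ : DefSch X₀ x₀ A) : Nonempty (ξ.Iso (DefSch.trivial X₀ x₀ hx A)) := by
  let triv : ∀ A : ArtFun.Art k k, DefSch X₀ x₀ A := fun A => DefSch.trivial X₀ x₀ hx A
  have hbc : ∀ {A B : ArtFun.Art k k} (g : B ⟶ A), Nonempty (((triv B).baseChange g).Iso (triv A)) := fun {A B} g => by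
    have h : ofBase B ≫ g = ofBase A := Art.hom_ext (AlgHom.ext fun c => g.toAlgHom.commutes c)
    have e := (DefSch.baseChangeComp (DefSch.self X₀ x₀ hx) (ofBase B) g).symm
    rw [h] at e
    exact ⟨e⟩
  let P : ∀ ⦃A B : ArtFun.Art k k⦄, (B ⟶ A) → Prop := fun A B _ =>
    (∀ ξ : DefSch X₀ x₀ A, Nonempty (ξ.Iso (triv A))) → ∀ ξ : DefSch X₀ x₀ B, Nonempty (ξ.Iso (triv B))
  have main : P (toBase A) := by
    refine GrothLib.ArtFun.surj_induction P ?_ ?_ ?_ (toBase A) A.res_surjective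
    · intro A B e he H ξ
      haveI := he
      obtain ⟨a⟩ := H (ξ.baseChange e)
      obtain ⟨b⟩ := hbc (inv e) (B := A) (A := B)
      have c := (DefSch.baseChangeComp ξ e (inv e)).symm
      rw [IsIso.hom_inv_id] at c
      exact ⟨(DefSch.baseChangeId ξ).symm.trans (c.symm.trans ((a.baseChange (inv e)).trans b))⟩
    · intro A B p hp H ξ
      obtain ⟨a⟩ := H (ξ.baseChange p)
      obtain ⟨b⟩ := hbc p
      obtain ⟨D, ⟨e₀⟩⟩ := exists_affData (triv A)
      letI := algR p D
      letI : Algebra D.E B₀ := D.ι.toAlgebra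
      obtain ⟨E₂⟩ := nonempty_extEquiv_lift p (D := D) hp.1
      obtain ⟨L, -⟩ := exists_isRep p (D := D) hp.1 ⟨triv B, b.trans e₀⟩
      obtain ⟨E₃⟩ := nonempty_equiv (setting p (D := D) hp.isSemismallExt) L
      obtain ⟨f⟩ := nonempty_kerEquiv_of_isSmallExt hp
      obtain ⟨E₄⟩ := t1_congr (_root_.CotT.canon k B₀)
        ((TensorProduct.AlgebraTensorModule.congr (LinearEquiv.refl B₀ B₀) f.symm).trans
          (TensorProduct.AlgebraTensorModule.rid k B₀ B₀))
      haveI : Subsingleton (Quot (ExtRel p D.toDefSch)) := (E₂.trans (E₃.trans E₄)).subsingleton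
      have h := Quot.eqvGen_exact (Subsingleton.elim
        (Quot.mk (ExtRel p D.toDefSch) ⟨ξ, a.trans e₀⟩) (Quot.mk _ ⟨triv B, b.trans e₀⟩))
      suffices H' : ∀ u v : ExtOf p D.toDefSch, Relation.EqvGen (ExtRel p D.toDefSch) u v → Nonempty (u.1.Iso v.1) from
        H' _ _ h
      intro u v huv
      induction huv with
      | rel _ _ h =>
        obtain ⟨ψ, -⟩ := h
        exact ⟨ψ⟩
      | refl u => exact ⟨DefSch.Iso.refl _⟩
      | symm _ _ _ h => exact ⟨h.some.symm⟩
      | trans _ _ _ _ _ h h' => exact ⟨h.some.trans h'.some⟩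
    · intro A B C p q _ _ hp hq H
      exact hp (hq H)
  refine main (fun ζ => ?_) ξ
  obtain ⟨a⟩ := nonempty_iso_self hx ζ
  obtain ⟨b⟩ := nonempty_iso_self hx (triv (Art.base k k))
  exact ⟨a.trans b.symm⟩

end GrothLib.AffDef
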