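import Groth.Agent.Lib.AffDef26.Lifts
import Groth.Agent.Lib.Thickening.Affine
import Groth.Agent.Lib.FSchSys.SpecKer
import Groth.Prelude.Def_ArtFun4
import Mathlib

/-!
# Deformations of an affine scheme are spectra of flat algebras
-/

universe u

open CategoryTheory CategoryTheory.Limits AlgebraicGeometry ArtFun ArtFun.Art

noncomputable section

namespace GrothLib.AffDef

theorem surjective_of_isClosedImmersion_specMap {R S : CommRingCat.{u}} (f : R ⟶ S)
    [IsClosedImmersion (Spec.map f)] : Function.Surjective f.hom := by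
  obtain ⟨-, h⟩ := IsClosedImmersion.isAffine_surjective_of_isAffine (Spec.map f)
  intro s
  obtain ⟨r, hr⟩ := h ((Scheme.ΓSpecIso S).inv.hom s)
  refine ⟨(Scheme.ΓSpecIso R).hom.hom r, ?_⟩
  have := congrArg (fun g : Γ(Spec R, ⊤) ⟶ S => g.hom r) (Scheme.ΓSpecIso_naturality f)
  refine Eq.trans this.symm ?_
  show (Scheme.ΓSpecIso S).hom.hom ((Spec.map f).appTop.hom r) = s
  erw [hr]
  simp

variable {k : Type u} [Field k] {B₀ : Type u} [CommRing B₀] [Algebra k B₀]

local notation "X₀" => Spec (CommRingCat.of B₀)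
local notation "x₀" => Spec.map (CommRingCat.ofHom (algebraMap k B₀))

/-- A flat algebra with special fibre `B₀`. -/
structure AffData (A : ArtFun.Art k k) (B₀ : Type u) [CommRing B₀] [Algebra k B₀] : Type (u + 1) where
  E : Type u
  [commRing : CommRing E]
  [algebra : Algebra A E]
  flat : Module.Flat A E
  ι : E →+* B₀
  surj : Function.Surjective ι
  ker : RingHom.ker ι = (RingHom.ker A.res).map (algebraMap A E)
  comm : ∀ a : A, ι (algebraMap A E a) = algebraMap k B₀ (A.res a)

attribute [instance] AffData.commRing AffData.algebra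

instance (A : ArtFun.Art k k) : IsClosedImmersion (specRes A) :=
  IsClosedImmersion.spec_of_surjective _ A.res_surjective

instance (A : ArtFun.Art k k) : Surjective (specRes A) := by
  refine ⟨fun y => ⟨IsLocalRing.closedPoint k, PrimeSpectrum.ext ?_⟩⟩
  have h1 := IsLocalRing.eq_maximalIdeal (IsArtinianRing.isMaximal_of_isPrime y.asIdeal)
  have h2 := IsLocalRing.eq_maximalIdeal
    (IsArtinianRing.isMaximal_of_isPrime ((specRes A).base (IsLocalRing.closedPoint k)).asIdeal)
  exact h2.trans h1.symm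

namespace AffData

variable {A : ArtFun.Art k k}

/-- The deformation of an algebra. -/
@[reducible] def toDefSch (D : AffData A B₀) : DefSch X₀ x₀ A where
  total := Spec (CommRingCat.of D.E)
  f := Spec.map (CommRingCat.ofHom (algebraMap A D.E))
  flat := by
    rw [HasRingHomProperty.Spec_iff (P := @Flat)]
    exact RingHom.flat_algebraMap_iff.2 D.flat
  i := Spec.map (CommRingCat.ofHom D.ι)
  isPullback := by
    refine (GrothLib.FSchSys.isPullback_spec_iff (CommRingCat.ofHom (algebraMap A D.E))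
      (CommRingCat.ofHom (algebraMap k B₀)) (CommRingCat.ofHom A.res.toRingHom) (CommRingCat.ofHom D.ι)
      A.res_surjective D.surj ?_).2 D.ker.symm
    ext a
    exact D.comm a

end AffData

theorem exists_affData {A : ArtFun.Art k k} (ξ : DefSch X₀ x₀ A) :
    ∃ D : AffData A B₀, Nonempty (ξ.Iso D.toDefSch) := by
  haveI : IsClosedImmersion ξ.i :=
    MorphismProperty.of_isPullback (P := @IsClosedImmersion) ξ.isPullback.flip inferInstance
  haveI : Surjective ξ.i := MorphismProperty.of_isPullback (P := @Surjective) ξ.isPullback.flip inferInstance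
  haveI : IsAffine ξ.total := GrothLib.Thickening.isAffine_of_thickening ξ.i
  let E : CommRingCat.{u} := Γ(ξ.total, ⊤)
  let φ : CommRingCat.of A ⟶ E := Spec.preimage (ξ.total.isoSpec.inv ≫ ξ.f)
  have hφ : Spec.map φ = ξ.total.isoSpec.inv ≫ ξ.f := Spec.map_preimage _
  let ι : E ⟶ CommRingCat.of B₀ := Spec.preimage (ξ.i ≫ ξ.total.isoSpec.hom)
  have hι : Spec.map ι = ξ.i ≫ ξ.total.isoSpec.hom := Spec.map_preimage _
  haveI : IsClosedImmersion (Spec.map ι) := by rw [hι]; infer_instance
  have hsurj : Function.Surjective ι.hom := surjective_of_isClosedImmersion_specMap _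
  have hflat : φ.hom.Flat := by
    rw [← HasRingHomProperty.Spec_iff (P := @Flat), hφ]
    infer_instance
  have hsq : IsPullback (Spec.map ι) x₀ (Spec.map φ) (specRes A) :=
    ξ.isPullback.of_iso (Iso.refl _) ξ.total.isoSpec (Iso.refl _) (Iso.refl _) (by simp [hι]) (by simp)
      (by simp [hφ]) (by simp)
  have w : φ ≫ ι = CommRingCat.ofHom A.res.toRingHom ≫ CommRingCat.ofHom (algebraMap k B₀) :=
    Spec.map_injective (by rw [Spec.map_comp, Spec.map_comp]; exact hsq.w)
  letI : Algebra A E := φ.hom.toAlgebra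
  let D : AffData A B₀ :=
    { E := E
      flat := hflat
      ι := ι.hom
      surj := hsurj
      ker := ((GrothLib.FSchSys.isPullback_spec_iff φ (CommRingCat.ofHom (algebraMap k B₀))
        (CommRingCat.ofHom A.res.toRingHom) ι A.res_surjective hsurj w).1 hsq).symm
      comm := fun a => congrArg (fun g : CommRingCat.of A ⟶ CommRingCat.of B₀ => g.hom a) w }
  exact ⟨D, ⟨⟨ξ.total.isoSpec, by
    show ξ.total.isoSpec.hom ≫ Spec.map φ = ξ.f
    rw [hφ, Iso.hom_inv_id_assoc], hι.symm⟩⟩⟩

theorem iso_ext {X : Scheme.{u}} {x : X ⟶ specPt k} {A : ArtFun.Art k k} {ξ ξ' : DefSch X x A}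
    {e e' : ξ.Iso ξ'} (h : e.iso = e'.iso) : e = e' := by
  cases e; cases e'; cases h; rfl

theorem trans_iso_iff {X : Scheme.{u}} {x : X ⟶ specPt k} {A : ArtFun.Art k k} {η η' ξ ξ' : DefSch X x A}
    (f : η.Iso η') (a : η.Iso ξ) (b : η'.Iso ξ) (e : ξ.Iso ξ') :
    (f.trans (b.trans e)).iso = (a.trans e).iso ↔ (f.trans b).iso = a.iso := by
  show f.iso ≪≫ (b.iso ≪≫ e.iso) = a.iso ≪≫ e.iso ↔ f.iso ≪≫ b.iso = a.iso
  rw [← CategoryTheory.Iso.trans_assoc]
  refine ⟨fun h => ?_, fun h => by rw [h]⟩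
  have := congrArg (fun t => t ≪≫ e.iso.symm) h
  simpa [CategoryTheory.Iso.trans_assoc] using this

section Extensions

variable {C' C : ArtFun.Art k k} (p : C' ⟶ C)

/-- Extensions of a deformation. -/
def ExtOf {X : Scheme.{u}} {x : X ⟶ specPt k} (𝒳 : DefSch X x C) : Type (u + 1) :=
  Σ 𝒳' : DefSch X x C', (𝒳'.baseChange p).Iso 𝒳

/-- Equivalence of extensions. -/
def ExtRel {X : Scheme.{u}} {x : X ⟶ specPt k} (𝒳 : DefSch X x C) (a b : ExtOf p 𝒳) : Prop :=
  ∃ ψ : a.1.Iso b.1, ((ψ.baseChange p).trans b.2).iso = a.2.iso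

theorem nonempty_extEquiv_of_iso {X : Scheme.{u}} {x : X ⟶ specPt k} {𝒳 𝒴 : DefSch X x C} (e : 𝒳.Iso 𝒴) :
    Nonempty (Quot (ExtRel p 𝒳) ≃ Quot (ExtRel p 𝒴)) := by
  let E : ExtOf p 𝒳 ≃ ExtOf p 𝒴 :=
    Equiv.sigmaCongrRight fun 𝒳' =>
      { toFun := fun d => d.trans e
        invFun := fun d => d.trans e.symm
        left_inv := fun d => iso_ext (by simp [DefSch.Iso.trans, DefSch.Iso.symm, CategoryTheory.Iso.trans_assoc])
        right_inv := fun d => iso_ext (by simp [DefSch.Iso.trans, DefSch.Iso.symm, CategoryTheory.Iso.trans_assoc]) }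
  refine ⟨Quot.congr E fun a b => ?_⟩
  exact exists_congr fun ψ => (trans_iso_iff (ψ.baseChange p) a.2 b.2 e).symm

variable (D : AffData C B₀)

/-- The map from the given deformation into the total space of an extension. -/
def ExtOf.emb {D : AffData C B₀} (a : ExtOf p D.toDefSch) : Spec (CommRingCat.of D.E) ⟶ a.1.total :=
  a.2.iso.inv ≫ pullback.fst a.1.f (specMap p)

theorem ExtOf.emb_f {D : AffData C B₀} (a : ExtOf p D.toDefSch) :
    a.emb p ≫ a.1.f = D.toDefSch.f ≫ specMap p := by
  rw [ExtOf.emb, Category.assoc, pullback.condition, ← Category.assoc]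
  congr 1
  rw [Iso.inv_comp_eq]
  exact a.2.hom_f.symm

theorem ExtOf.i_eq {D : AffData C B₀} (a : ExtOf p D.toDefSch) : a.1.i = D.toDefSch.i ≫ a.emb p := by
  have h : (a.1.baseChange p).i ≫ a.2.iso.hom ≫ a.2.iso.inv = D.toDefSch.i ≫ a.2.iso.inv := by
    rw [← Category.assoc, a.2.i_hom]
  rw [Iso.hom_inv_id, Category.comp_id] at h
  rw [ExtOf.emb, ← Category.assoc, ← h, DefSch.baseChange_i_fst]

theorem extRel_iff {D : AffData C B₀} (a b : ExtOf p D.toDefSch) :
    ExtRel p D.toDefSch a b ↔ ∃ g : a.1.total ≅ b.1.total, g.hom ≫ b.1.f = a.1.f ∧ a.emb p ≫ g.hom = b.emb p := by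
  constructor
  · rintro ⟨ψ, h⟩
    refine ⟨ψ.iso, ψ.hom_f, ?_⟩
    have h' : DefSch.pullMap ψ.iso.hom ψ.hom_f p ≫ b.2.iso.hom = a.2.iso.hom := congrArg Iso.hom h
    have h'' : a.2.iso.inv ≫ DefSch.pullMap ψ.iso.hom ψ.hom_f p = b.2.iso.inv := by
      rw [Iso.inv_comp_eq, ← h', Category.assoc, Iso.hom_inv_id, Category.comp_id]
    rw [ExtOf.emb, ExtOf.emb, ← h'', Category.assoc, Category.assoc, DefSch.pullMap_fst]
  · rintro ⟨g, hf, hj⟩
    let ψ : a.1.Iso b.1 := ⟨g, hf, by rw [ExtOf.i_eq p a, ExtOf.i_eq p b, Category.assoc, hj]⟩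
    refine ⟨ψ, CategoryTheory.Iso.ext ?_⟩
    show DefSch.pullMap g.hom hf p ≫ b.2.iso.hom = a.2.iso.hom
    rw [← Iso.eq_comp_inv]
    refine pullback.hom_ext ?_ ?_
    · rw [DefSch.pullMap_fst, Category.assoc, show b.2.iso.inv ≫ pullback.fst b.1.f (specMap p) = b.emb p from rfl,
        ← hj, ExtOf.emb, Category.assoc, Iso.hom_inv_id_assoc]
    · rw [DefSch.pullMap_snd, Category.assoc,
        show b.2.iso.inv ≫ pullback.snd b.1.f (specMap p) = D.toDefSch.f from (Iso.inv_comp_eq _).2 b.2.hom_f.symm]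
      exact a.2.hom_f.symm

/-- The algebra `R` over `C'`. -/
abbrev algR : Algebra C' D.E := ((algebraMap C D.E).comp p.toAlgHom.toRingHom).toAlgebra

/-- A lift representing an extension. -/
def IsRep {D : AffData C B₀} (a : ExtOf p D.toDefSch) :
    letI := algR p D
    Lift C' (RingHom.ker p.toAlgHom) D.E → Prop :=
  letI := algR p D
  fun L => ∃ g : Spec (CommRingCat.of L.E) ≅ a.1.total,
    g.hom ≫ a.1.f = Spec.map (CommRingCat.ofHom (algebraMap C' L.E)) ∧
    Spec.map (CommRingCat.ofHom L.π.toRingHom) ≫ g.hom = a.emb p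

theorem rel_iff_of_isRep {D : AffData C B₀} (a b : ExtOf p D.toDefSch) :
    letI := algR p D
    ∀ (L M : Lift C' (RingHom.ker p.toAlgHom) D.E), IsRep p a L → IsRep p b M →
      (ExtRel p D.toDefSch a b ↔ Lift.Rel L M) := by
  letI := algR p D
  rintro L M ⟨g, hgf, hgj⟩ ⟨g', hgf', hgj'⟩
  rw [extRel_iff]
  constructor
  · rintro ⟨ψ, hψ, hj⟩
    let h : Spec (CommRingCat.of L.E) ≅ Spec (CommRingCat.of M.E) := g ≪≫ ψ ≪≫ g'.symm
    let e : CommRingCat.of L.E ≅ CommRingCat.of M.E :=
      { hom := Spec.preimage h.inv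
        inv := Spec.preimage h.hom
        hom_inv_id := Spec.map_injective (by simp)
        inv_hom_id := Spec.map_injective (by simp) }
    have h1 : CommRingCat.ofHom (algebraMap C' L.E) ≫ e.hom = CommRingCat.ofHom (algebraMap C' M.E) := by
      apply Spec.map_injective
      rw [Spec.map_comp, Spec.map_preimage, ← hgf, ← hgf', ← hψ]
      simp [h]
    have h2 : e.hom ≫ CommRingCat.ofHom M.π.toRingHom = CommRingCat.ofHom L.π.toRingHom := by
      apply Spec.map_injective
      rw [Spec.map_comp, Spec.map_preimage]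
      have : Spec.map (CommRingCat.ofHom M.π.toRingHom) =
          Spec.map (CommRingCat.ofHom L.π.toRingHom) ≫ h.hom := by
        rw [← cancel_mono g'.hom, hgj', ← hj, ← hgj]
        simp [h]
      rw [this, Category.assoc, Iso.hom_inv_id, Category.comp_id]
    exact ⟨AlgEquiv.ofRingEquiv (f := e.commRingCatIsoToRingEquiv)
        fun c => congrArg (fun t : CommRingCat.of C' ⟶ CommRingCat.of M.E => t.hom c) h1,
      fun y => congrArg (fun t : CommRingCat.of L.E ⟶ CommRingCat.of D.E => t.hom y) h2⟩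
  · rintro ⟨e, he⟩
    let h : Spec (CommRingCat.of L.E) ≅ Spec (CommRingCat.of M.E) :=
      Scheme.Spec.mapIso e.toRingEquiv.toCommRingCatIso.symm.op
    have h1 : h.hom ≫ Spec.map (CommRingCat.ofHom (algebraMap C' M.E)) =
        Spec.map (CommRingCat.ofHom (algebraMap C' L.E)) := by
      show Spec.map _ ≫ _ = _
      rw [← Spec.map_comp]
      congr 1
      ext c
      exact e.symm.commutes c
    have h2 : Spec.map (CommRingCat.ofHom L.π.toRingHom) ≫ h.hom = Spec.map (CommRingCat.ofHom M.π.toRingHom) := by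
      show _ ≫ Spec.map _ = _
      rw [← Spec.map_comp]
      congr 1
      ext y
      show L.π (e.symm y) = M.π y
      rw [← he, AlgEquiv.apply_symm_apply]
    refine ⟨g.symm ≪≫ h ≪≫ g', ?_, ?_⟩
    · rw [Iso.trans_hom, Iso.trans_hom, Category.assoc, Category.assoc, hgf', h1, Iso.symm_hom, ← hgf,
        Iso.inv_hom_id_assoc]
    · rw [← hgj, ← hgj', ← h2]
      simp

theorem exists_isRep {D : AffData C B₀} (hp : Function.Surjective p) (a : ExtOf p D.toDefSch) :
    letI := algR p D
    ∃ L, IsRep p a L := by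
  letI := algR p D
  obtain ⟨D', ⟨g₀⟩⟩ := exists_affData a.1
  let π : CommRingCat.of D'.E ⟶ CommRingCat.of D.E := Spec.preimage (a.emb p ≫ g₀.iso.hom)
  have hπ : Spec.map π = a.emb p ≫ g₀.iso.hom := Spec.map_preimage _
  have w : CommRingCat.ofHom (algebraMap C' D'.E) ≫ π =
      CommRingCat.ofHom p.toAlgHom.toRingHom ≫ CommRingCat.ofHom (algebraMap C D.E) := by
    apply Spec.map_injective
    rw [Spec.map_comp, Spec.map_comp, hπ, Category.assoc,
      show g₀.iso.hom ≫ Spec.map (CommRingCat.ofHom (algebraMap C' D'.E)) = a.1.f from g₀.hom_f]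
    exact a.emb_f p
  have hsq : IsPullback (Spec.map π) (Spec.map (CommRingCat.ofHom (algebraMap C D.E)))
      (Spec.map (CommRingCat.ofHom (algebraMap C' D'.E))) (specMap p) :=
    (IsPullback.of_hasPullback a.1.f (specMap p)).of_iso a.2.iso g₀.iso (Iso.refl _) (Iso.refl _)
      (by rw [hπ, ExtOf.emb]; simp) (by simpa using a.2.hom_f.symm) (by simpa using g₀.hom_f.symm) (by simp)
  haveI : IsClosedImmersion (specMap p) := IsClosedImmersion.spec_of_surjective _ hp
  haveI : IsClosedImmersion (Spec.map π) :=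
    MorphismProperty.of_isPullback (P := @IsClosedImmersion) hsq.flip inferInstance
  have hsurj : Function.Surjective π.hom := surjective_of_isClosedImmersion_specMap _
  have hker := (GrothLib.FSchSys.isPullback_spec_iff (CommRingCat.ofHom (algebraMap C' D'.E))
    (CommRingCat.ofHom (algebraMap C D.E)) (CommRingCat.ofHom p.toAlgHom.toRingHom) π hp hsurj w).1 hsq
  refine ⟨⟨D'.E, D'.flat,
    { π.hom with commutes' := fun c => congrArg (fun t : CommRingCat.of C' ⟶ CommRingCat.of D.E => t.hom c) w },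
    hsurj, hker.symm⟩, g₀.iso.symm, ?_, ?_⟩
  · rw [Iso.symm_hom, Iso.inv_comp_eq]
    exact g₀.hom_f.symm
  · show Spec.map π ≫ g₀.iso.inv = _
    rw [hπ, Category.assoc, Iso.hom_inv_id, Category.comp_id]

theorem exists_isRep_lift {D : AffData C B₀} (hp : Function.Surjective p) :
    letI := algR p D
    ∀ L : Lift C' (RingHom.ker p.toAlgHom) D.E, ∃ a : ExtOf p D.toDefSch, IsRep p a L := by
  letI := algR p D
  intro L
  have hres : ∀ c, C.res (p c) = C'.res c := fun c => Art.res_app p c
  let D' : AffData C' B₀ :=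
    { E := L.E
      flat := L.flat
      ι := D.ι.comp L.π.toRingHom
      surj := D.surj.comp L.surj
      ker := by
        have hk : RingHom.ker C.res = (RingHom.ker C'.res).map p.toAlgHom.toRingHom := by
          refine le_antisymm (fun c hc => ?_) (Ideal.map_le_iff_le_comap.2 fun c hc => ?_)
          · obtain ⟨c, rfl⟩ := hp c
            exact Ideal.mem_map_of_mem _ (by rw [RingHom.mem_ker, ← hres]; exact hc)
          · rw [Ideal.mem_comap, RingHom.mem_ker]
            exact (hres c).trans hc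
        refine le_antisymm (fun y hy => ?_) (Ideal.map_le_iff_le_comap.2 fun c hc => ?_)
        · have h : L.π y ∈ ((RingHom.ker C'.res).map (algebraMap C' L.E)).map L.π.toRingHom := by
            rw [Ideal.map_map, AlgHom.toRingHom_eq_coe, AlgHom.comp_algebraMap]
            show L.π y ∈ (RingHom.ker C'.res).map ((algebraMap C D.E).comp p.toAlgHom.toRingHom)
            rw [← Ideal.map_map, ← hk, ← D.ker]
            exact hy
          obtain ⟨y', hy', e⟩ := (Ideal.mem_map_iff_of_surjective L.π.toRingHom L.surj).1 h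
          have h' : y - y' ∈ RingHom.ker L.π := by
            rw [RingHom.mem_ker, map_sub, show L.π y' = L.π y from e, sub_self]
          rw [L.ker] at h'
          have hJ : RingHom.ker p.toAlgHom ≤ RingHom.ker C'.res := fun c hc => by
            rw [RingHom.mem_ker, ← hres, show p c = 0 from hc, map_zero]
          have := add_mem (Ideal.map_mono hJ h') hy'
          rwa [sub_add_cancel] at this
        · show D.ι (L.π (algebraMap C' L.E c)) = 0
          rw [AlgHom.commutes]
          show D.ι (algebraMap C D.E (p c)) = 0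
          rw [D.comm, hres, show C'.res c = 0 from hc, map_zero]
      comm := fun c => by
        show D.ι (L.π (algebraMap C' L.E c)) = _
        rw [AlgHom.commutes]
        exact (D.comm (p c)).trans (by rw [hres]) }
  have w : CommRingCat.ofHom (algebraMap C' L.E) ≫ CommRingCat.ofHom L.π.toRingHom =
      CommRingCat.ofHom p.toAlgHom.toRingHom ≫ CommRingCat.ofHom (algebraMap C D.E) := by
    ext c
    exact L.π.commutes c
  have hsq : IsPullback (Spec.map (CommRingCat.ofHom L.π.toRingHom))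
      (Spec.map (CommRingCat.ofHom (algebraMap C D.E)))
      (Spec.map (CommRingCat.ofHom (algebraMap C' L.E))) (specMap p) :=
    (GrothLib.FSchSys.isPullback_spec_iff (CommRingCat.ofHom (algebraMap C' L.E))
      (CommRingCat.ofHom (algebraMap C D.E)) (CommRingCat.ofHom p.toAlgHom.toRingHom)
      (CommRingCat.ofHom L.π.toRingHom) hp L.surj w).2 L.ker.symm
  let e : (D'.toDefSch.baseChange p).Iso D.toDefSch :=
    { iso := hsq.isoPullback.symm
      hom_f := hsq.isoPullback_inv_snd
      i_hom := by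
        show (D'.toDefSch.baseChange p).i ≫ hsq.isoPullback.inv = Spec.map (CommRingCat.ofHom D.ι)
        apply hsq.hom_ext
        · rw [Category.assoc, hsq.isoPullback_inv_fst, DefSch.baseChange_i_fst, ← Spec.map_comp]
          rfl
        · rw [Category.assoc, hsq.isoPullback_inv_snd, DefSch.baseChange_i_f]
          exact D.toDefSch.i_f.symm }
  refine ⟨⟨D'.toDefSch, e⟩, Iso.refl _, Category.id_comp _, ?_⟩
  show _ ≫ 𝟙 _ = hsq.isoPullback.hom ≫ pullback.fst _ _
  rw [Category.comp_id, hsq.isoPullback_hom_fst]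

theorem lift_rel_equivalence {D : AffData C B₀} :
    letI := algR p D
    Equivalence (Lift.Rel (C' := C') (J := RingHom.ker p.toAlgHom) (R := D.E)) := by
  letI := algR p D
  refine ⟨fun a => ⟨AlgEquiv.refl, fun _ => rfl⟩, fun ⟨e, he⟩ => ⟨e.symm, fun y => ?_⟩,
    fun ⟨e, he⟩ ⟨e', he'⟩ => ⟨e.trans e', fun y => (he' (e y)).trans (he y)⟩⟩
  rw [← he, AlgEquiv.apply_symm_apply]

theorem nonempty_extEquiv_lift {D : AffData C B₀} (hp : Function.Surjective p) :
    letI := algR p D
    Nonempty (Quot (ExtRel p D.toDefSch) ≃ Quot (Lift.Rel (C' := C') (J := RingHom.ker p.toAlgHom) (R := D.E))) := by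
  letI := algR p D
  choose rep hrep using fun a => exists_isRep p (D := D) hp a
  let F : Quot (ExtRel p D.toDefSch) → Quot (Lift.Rel (C' := C') (J := RingHom.ker p.toAlgHom) (R := D.E)) :=
    Quot.lift (fun a => Quot.mk _ (rep a))
      fun a b h => Quot.sound ((rel_iff_of_isRep p a b _ _ (hrep a) (hrep b)).1 h)
  refine ⟨Equiv.ofBijective F ⟨?_, fun q => ?_⟩⟩
  · rintro ⟨a⟩ ⟨b⟩ h
    refine Quot.sound ((rel_iff_of_isRep p a b _ _ (hrep a) (hrep b)).2 ?_)
    exact (lift_rel_equivalence p).eqvGen_iff.1 (Quot.eqvGen_exact h)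
  · induction q using Quot.ind with
    | mk L =>
      obtain ⟨a, ha⟩ := exists_isRep_lift p hp L
      refine ⟨Quot.mk _ a, Quot.sound ?_⟩
      obtain ⟨g, hgf, hgj⟩ := hrep a
      exact (rel_iff_of_isRep p a a _ _ (hrep a) ha).1
        ((extRel_iff p a a).2 ⟨Iso.refl _, Category.id_comp _, Category.comp_id _⟩)

theorem setting {D : AffData C B₀} (hp : IsSemismallExt p) :
    letI := algR p D
    letI : Algebra D.E B₀ := D.ι.toAlgebra
    Setting C'.res (RingHom.ker p.toAlgHom) D.E B₀ := by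
  letI := algR p D
  letI : Algebra D.E B₀ := D.ι.toAlgebra
  have hres : ∀ c, C.res (p c) = C'.res c := fun c => Art.res_app p c
  have hmax : RingHom.ker C'.res = IsLocalRing.maximalIdeal C' :=
    Ideal.ext fun c => (Art.mem_maximalIdeal_iff C' c).symm
  have hJ : RingHom.ker p.toAlgHom ≤ RingHom.ker C'.res := fun c hc => by
    rw [RingHom.mem_ker, ← hres, show p c = 0 from hc, map_zero]
  have hk : RingHom.ker C.res = (RingHom.ker C'.res).map p.toAlgHom.toRingHom := by
    refine le_antisymm (fun c hc => ?_) (Ideal.map_le_iff_le_comap.2 fun c hc => ?_)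
    · obtain ⟨c, rfl⟩ := hp.1 c
      exact Ideal.mem_map_of_mem _ (by rw [RingHom.mem_ker, ← hres]; exact hc)
    · rw [Ideal.mem_comap, RingHom.mem_ker]
      exact (hres c).trans hc
  refine ⟨hmax ▸ hp.2, hJ, ?_, ?_, ?_, D.surj, ?_, fun c => (D.comm (p c)).trans (by rw [hres])⟩
  · rw [hmax]
    exact IsLocalRing.jacobson_eq_maximalIdeal (R := C') ⊥ bot_ne_top ▸ IsArtinianRing.isNilpotent_jacobson_bot
  · refine (Ideal.map_eq_bot_iff_le_ker _).2 fun c hc => ?_
    show algebraMap C D.E (p c) = 0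
    rw [show p c = 0 from hc, map_zero]
  · intro _ _
    let q : (C' ⧸ RingHom.ker p.toAlgHom) →+* C := RingHom.kerLift p.toAlgHom.toRingHom
    have hq : Function.Bijective q :=
      ⟨RingHom.kerLift_injective _, fun c => by obtain ⟨c, rfl⟩ := hp.1 c; exact ⟨Ideal.Quotient.mk _ c, rfl⟩⟩
    letI : Algebra (C' ⧸ RingHom.ker p.toAlgHom) C := q.toAlgebra
    haveI : IsScalarTower (C' ⧸ RingHom.ker p.toAlgHom) C D.E := IsScalarTower.of_algebraMap_eq fun x => by
      obtain ⟨c, rfl⟩ := Ideal.Quotient.mk_surjective x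
      exact ((IsScalarTower.algebraMap_apply C' (C' ⧸ RingHom.ker p.toAlgHom) D.E c).symm :)
    haveI : Module.Flat (C' ⧸ RingHom.ker p.toAlgHom) C :=
      Module.Flat.of_linearEquiv (LinearEquiv.ofBijective (Algebra.linearMap _ C) hq).symm
    haveI := D.flat
    exact Module.Flat.trans (C' ⧸ RingHom.ker p.toAlgHom) C D.E
  · show RingHom.ker D.ι = (RingHom.ker C'.res).map ((algebraMap C D.E).comp p.toAlgHom.toRingHom)
    rw [← Ideal.map_map, ← hk, D.ker]

end Extensions

end GrothLib.AffDef
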